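import Mathlib
import Cfsg.Agent.H7.NB.PslDeg
import Cfsg.Agent.H7.NB.Map
import Cfsg.Agent.H128.ObPsl

/-!
# `PSL_n(q)` has more than one `p`-block

* `nb_diag` : `T = diag(1, D)`, `D` without eigenvalue one;
* `nb_three` : `n = 3`, `p = 3 ∣ q - 1`, `q ≠ 4`.
-/

set_option autoImplicit false

namespace Cfsg.Agent.H7.NBPsl

open Cfsg Matrix Cfsg.Agent.H7.NBp Cfsg.Agent.H128.ObPsl

section blocks

variable {F : Type*} [Field F] {ι κ : Type*} [Fintype ι] [DecidableEq ι] [Fintype κ] [DecidableEq κ]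
variable {p : ℕ} [hp : Fact p.Prime]

/-- `T = diag(1, D)` -/
theorem nb_diag [Finite F] [Nonempty κ] (hcard : Fintype.card κ < Fintype.card ι) {d : κ → F}
    (hd1 : ∀ j, d j ≠ 1) (hdp : ∀ j, d j ^ p = 1) (hdet : ∏ j, d j = 1)
    (h : NB p (SpecialLinearGroup ι F ⧸ Subgroup.center (SpecialLinearGroup ι F))) :
    NB p (SpecialLinearGroup (ι ⊕ κ) F ⧸ Subgroup.center (SpecialLinearGroup (ι ⊕ κ) F)) := by
  let T : SpecialLinearGroup (ι ⊕ κ) F := ⟨fromBlocks 1 0 0 (diagonal d), by
    rw [det_fromBlocks_zero₂₁, det_one, one_mul, det_diagonal, hdet]⟩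
  have hT : T.1 = fromBlocks 1 0 0 (diagonal d) := rfl
  -- the blocks of an element commuting up to a scalar
  have key : ∀ (g : Matrix (ι ⊕ κ) (ι ⊕ κ) F) (r : F), g * T.1 = r • (T.1 * g) →
      (r ≠ 1 → g.toBlocks₁₁ = 0) ∧ (r = 1 → g.toBlocks₁₂ = 0 ∧ g.toBlocks₂₁ = 0) := by
    intro g r hg
    have h1 := fromBlocks_toBlocks g
    rw [hT, ← h1, fromBlocks_multiply, fromBlocks_multiply, fromBlocks_smul, fromBlocks_inj] at hg
    obtain ⟨h11, h12, h21, -⟩ := hg
    simp only [Matrix.mul_zero, Matrix.zero_mul, add_zero, zero_add, Matrix.mul_one, Matrix.one_mul]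
      at h11 h12 h21
    constructor
    · intro hr
      ext i j
      have := congrFun (congrFun h11 i) j
      simp only [Matrix.smul_apply, smul_eq_mul] at this
      have h3 : (1 - r) * (g.toBlocks₁₁ i j) = 0 := by linear_combination this
      rcases mul_eq_zero.1 h3 with h | h
      · exact (hr (sub_eq_zero.1 h).symm).elim
      · exact h
    · rintro rfl
      rw [one_smul] at h12 h21
      constructor
      · ext i j
        have := congrFun (congrFun h12 i) j
        rw [Matrix.mul_diagonal] at this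
        have h3 : (d j - 1) * (g.toBlocks₁₂ i j) = 0 := by linear_combination this
        rcases mul_eq_zero.1 h3 with h | h
        · exact (hd1 j (sub_eq_zero.1 h)).elim
        · exact h
      · ext i j
        have := congrFun (congrFun h21 i) j
        rw [Matrix.diagonal_mul] at this
        have h3 : (d i - 1) * (g.toBlocks₂₁ i j) = 0 := by linear_combination -this
        rcases mul_eq_zero.1 h3 with h | h
        · exact (hd1 i (sub_eq_zero.1 h)).elim
        · exact h
  refine nb_of_quot (p := p) T ⟨1, ?_⟩ (left ι κ F) left_center ?_ ?_ h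
  · have h1 : ∀ m : ℕ, (T ^ m).1 = fromBlocks 1 0 0 (diagonal (d ^ m)) := by
      intro m
      induction m with
      | zero =>
        rw [pow_zero, pow_zero]
        change (1 : Matrix (ι ⊕ κ) (ι ⊕ κ) F) = _
        rw [Matrix.diagonal_one', fromBlocks_one]
      | succ m ih =>
        rw [pow_succ, pow_succ]
        change (T ^ m).1 * T.1 = _
        rw [ih, hT, fromBlocks_multiply]
        simp
    have h2 : T ^ p ^ 1 = 1 := by
      apply Subtype.ext
      rw [pow_one, h1]
      have h3 : d ^ p = 1 := funext hdp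
      rw [h3]
      change _ = (1 : Matrix (ι ⊕ κ) (ι ⊕ κ) F)
      rw [Matrix.diagonal_one', fromBlocks_one]
    rw [h2]
    exact Subgroup.one_mem _
  · intro l
    apply Subtype.ext
    change T.1 * fromBlocks l.1 0 0 1 = fromBlocks l.1 0 0 1 * T.1
    rw [hT, fromBlocks_multiply, fromBlocks_multiply]
    simp
  · intro g z hz hg l
    obtain ⟨r, hzr, -, h3⟩ := rel_mat hz hg
    obtain ⟨r', hzr', -, h4⟩ := rel_mat (Subgroup.inv_mem _ hz) (inv_rel hz hg)
    have hnon : Nonempty (ι ⊕ κ) := ⟨Sum.inr (Classical.arbitrary κ)⟩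
    have hrr : r' * r = 1 := by
      have h5 : (z⁻¹).1 * z.1 = 1 := congrArg Subtype.val (inv_mul_cancel z)
      rw [hzr, hzr', ← map_mul] at h5
      obtain ⟨i⟩ := hnon
      have := congrFun (congrFun h5 i) i
      simpa using this
    have k1 := key g.1 r h3
    have k2 := key (g⁻¹).1 r' h4
    by_cases hr : r = 1
    · have hr' : r' = 1 := by rw [hr, mul_one] at hrr; exact hrr
      obtain ⟨a1, a2⟩ := k1.2 hr
      obtain ⟨b1, b2⟩ := k2.2 hr'
      refine left_conj (a := g.1.toBlocks₁₁) (d := g.1.toBlocks₂₂) (a' := (g⁻¹).1.toBlocks₁₁)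
        (d' := (g⁻¹).1.toBlocks₂₂) ?_ ?_ l
      · conv_lhs => rw [← fromBlocks_toBlocks g.1, a1, a2]
      · conv_lhs => rw [← fromBlocks_toBlocks (g⁻¹).1, b1, b2]
    · exfalso
      have a1 := k1.1 hr
      have e1 : g.1 * (g⁻¹).1 = 1 := congrArg Subtype.val (mul_inv_cancel g)
      rw [← fromBlocks_toBlocks g.1, ← fromBlocks_toBlocks (g⁻¹).1, fromBlocks_multiply,
        ← fromBlocks_one, fromBlocks_inj] at e1
      obtain ⟨c1, -, -, -⟩ := e1
      rw [a1, Matrix.zero_mul, zero_add] at c1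
      have h5 : (g.1.toBlocks₁₂ * (g⁻¹).1.toBlocks₂₁).rank = Fintype.card ι := by
        rw [c1, Matrix.rank_one]
      have h6 := Matrix.rank_mul_le_left g.1.toBlocks₁₂ (g⁻¹).1.toBlocks₂₁
      have h7 := Matrix.rank_le_card_width g.1.toBlocks₁₂
      omega

theorem nb_re {F : Type*} [Field F] {ι κ : Type*} [Fintype ι] [DecidableEq ι] [Fintype κ]
    [DecidableEq κ] {p : ℕ} (e : ι ≃ κ)
    (h : NB p (SpecialLinearGroup ι F ⧸ Subgroup.center (SpecialLinearGroup ι F))) :
    NB p (SpecialLinearGroup κ F ⧸ Subgroup.center (SpecialLinearGroup κ F)) :=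
  NB.iso (LieClassical.FieldTransfer.centralQuotientCongr (re (F := F) e)) h

end blocks

theorem isPGroup_zpowers {G : Type*} [Group G] {p : ℕ} {x : G} {k : ℕ} (h : x ^ p ^ k = 1) :
    IsPGroup p (Subgroup.zpowers x) := by
  rintro ⟨y, hy⟩
  obtain ⟨i, rfl⟩ := Subgroup.mem_zpowers_iff.1 hy
  refine ⟨k, Subtype.ext ?_⟩
  show (x ^ i) ^ p ^ k = 1
  rw [← zpow_natCast, ← _root_.zpow_mul, mul_comm, _root_.zpow_mul, zpow_natCast, h, _root_.one_zpow]

section main

variable {F : Type} [Field F] [Fintype F] {p : ℕ} [hp : Fact p.Prime]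

/-- elements of order `p` in `F` -/
theorem exists_root (h : p ∣ Fintype.card F - 1) : ∃ a : F, a ≠ 1 ∧ a ^ p = 1 := by
  have h1 : p ∣ Nat.card Fˣ := by
    classical
    rw [Nat.card_eq_fintype_card, Fintype.card_units]
    exact h
  obtain ⟨u, hu⟩ := exists_prime_orderOf_dvd_card' (G := Fˣ) p h1
  refine ⟨u, ?_, ?_⟩
  · intro h2
    have h3 : u = 1 := Units.ext h2
    rw [h3, orderOf_one] at hu
    exact hp.out.one_lt.ne hu
  · have := pow_orderOf_eq_one u
    rw [hu] at this
    have h2 := congrArg Units.val this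
    simpa using h2

/-- the block step -/
theorem nb_step (h : p ∣ Fintype.card F - 1) (k : ℕ) (hk : 3 ≤ k)
    (hk' : NB p (Matrix.ProjectiveSpecialLinearGroup (Fin k) F)) :
    NB p (Matrix.ProjectiveSpecialLinearGroup (Fin (k + 2)) F) := by
  obtain ⟨a, ha1, ha⟩ := exists_root h
  have ha0 : a ≠ 0 := by
    rintro rfl
    rw [zero_pow hp.out.ne_zero] at ha
    exact zero_ne_one ha
  refine nb_re finSumFinEquiv ?_
  refine nb_diag (ι := Fin k) (κ := Fin 2) (by simpa using (show 2 < k by omega)) (d := ![a, a⁻¹]) ?_ ?_ ?_ hk'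
  · intro j
    fin_cases j
    · exact ha1
    · intro h2
      apply ha1
      have h3 : a⁻¹ = 1 := h2
      rw [inv_eq_one] at h3
      exact h3
  · intro j
    fin_cases j
    · exact ha
    · change (a⁻¹) ^ p = 1
      rw [inv_pow, ha, inv_one]
  · rw [Fin.prod_univ_two]
    exact mul_inv_cancel₀ ha0

/-- `q - 1` is not a power of three, unless `q = 4` -/
theorem exists_prime_ne (h3 : 3 ∣ Fintype.card F - 1) (h4 : Fintype.card F ≠ 4) :
    ∃ l : ℕ, l.Prime ∧ l ≠ 3 ∧ l ∣ Fintype.card F - 1 := by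
  by_contra hcon
  push Not at hcon
  have hq : 2 ≤ Fintype.card F := Fintype.one_lt_card
  have h0 : Fintype.card F - 1 ≠ 0 := by omega
  have h1 := Nat.eq_prime_pow_of_unique_prime_dvd h0 (p := 3) (fun {d} hd hd' => by
    by_contra hne
    exact hcon d hd hne hd')
  set k := (Fintype.card F - 1).primeFactorsList.length
  have hk : 2 ≤ k := by
    by_contra hk
    have hk' : k = 0 ∨ k = 1 := by omega
    rcases hk' with h | h <;> rw [h] at h1
    · rw [pow_zero] at h1
      rw [h1] at h3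
      omega
    · omega
  -- the characteristic is two
  have heven : 2 ∣ Fintype.card F := by
    by_contra hodd
    refine absurd (hcon 2 Nat.prime_two (by norm_num)) ?_
    push Not
    omega
  obtain ⟨r, hchar⟩ := CharP.exists F
  obtain ⟨m, hr, hm⟩ := FiniteField.card F r
  have hr2 : r = 2 := by
    rw [hm] at heven
    exact ((Nat.prime_dvd_prime_iff_eq Nat.prime_two hr).1 (Nat.prime_two.dvd_of_dvd_pow heven)).symm
  rw [hr2] at hm
  have h9 : (2 : ZMod 9) ^ (m : ℕ) = 1 := by
    have e1 : ((Fintype.card F : ℕ) : ZMod 9) = 1 := by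
      have e2 : Fintype.card F = 3 ^ k + 1 := by omega
      obtain ⟨k', hk'⟩ := Nat.exists_eq_add_of_le hk
      rw [e2, hk', pow_add]
      have e3 : (9 : ZMod 9) = 0 := by decide
      push_cast
      norm_num
      rw [e3, zero_mul]
    rw [hm] at e1
    exact_mod_cast e1
  have h6 : 6 ∣ (m : ℕ) := by
    have e : orderOf (2 : ZMod 9) = 6 := by
      rw [orderOf_eq_iff (by norm_num)]
      refine ⟨by decide, ?_⟩
      intro j hj hj0
      interval_cases j <;> decide
    rw [← e]
    exact orderOf_dvd_of_pow_eq_one h9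
  obtain ⟨j, hj⟩ := h6
  have h7 : 7 ∣ Fintype.card F - 1 := by
    rw [hm, hj, pow_mul]
    have := Nat.sub_dvd_pow_sub_pow (2 ^ 6) 1 j
    rw [one_pow] at this
    exact (show 7 ∣ 2 ^ 6 - 1 by norm_num).trans this
  exact hcon 7 (by norm_num) (by norm_num) h7

omit [Fintype F] in
theorem diag_of_comm {n : Type*} [Fintype n] [DecidableEq n] {d : n → F} (hd : Function.Injective d)
    {g : Matrix n n F} (h : g * diagonal d = diagonal d * g) : ∃ e : n → F, g = diagonal e := by
  refine ⟨fun i => g i i, ?_⟩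
  ext i j
  by_cases hij : i = j
  · subst hij
    rw [diagonal_apply_eq]
  · rw [diagonal_apply_ne _ hij]
    have := congrFun (congrFun h i) j
    rw [Matrix.mul_diagonal, Matrix.diagonal_mul] at this
    have h1 : (d j - d i) * g i j = 0 := by linear_combination this
    rcases mul_eq_zero.1 h1 with h2 | h2
    · exact (hij (hd (sub_eq_zero.1 h2)).symm).elim
    · exact h2

/-- elements of order prime to `n` which commute with `T` modulo the center -/
theorem comm_of_coprime {G : Type*} [Group G] {g t z : G} (hz : z ∈ Subgroup.center G)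
    (h : g * t = z * (t * g)) {m n : ℕ} (hn : z ^ n = 1) (hm : g ^ m ∈ Subgroup.center G)
    (hc : Nat.Coprime m n) : g * t = t * g := by
  have h1 : ∀ k : ℕ, g ^ k * t = z ^ k * (t * g ^ k) := by
    intro k
    induction k with
    | zero => simp
    | succ k ih =>
      have hzg := (Subgroup.mem_center_iff.1 hz) g
      calc g ^ (k + 1) * t = g * (g ^ k * t) := by rw [pow_succ']; group
        _ = g * z ^ k * (t * g ^ k) := by rw [ih]; group
        _ = z ^ k * (g * t) * g ^ k := by
          rw [((Subgroup.mem_center_iff.1 (Subgroup.pow_mem _ hz k)) g)]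
          group
        _ = z ^ k * (z * (t * g)) * g ^ k := by rw [h]
        _ = z ^ (k + 1) * (t * g ^ (k + 1)) := by rw [pow_succ, pow_succ' g]; group
  have h2 := h1 m
  rw [← (Subgroup.mem_center_iff.1 hm) t] at h2
  have h3 : z ^ m = 1 := by
    have h4 : t * g ^ m = z ^ m * (t * g ^ m) := h2
    exact (mul_eq_right.1 h4.symm)
  have h5 : z = 1 := by
    have h6 : orderOf z ∣ Nat.gcd m n := Nat.dvd_gcd (orderOf_dvd_of_pow_eq_one h3) (orderOf_dvd_of_pow_eq_one hn)
    rw [hc] at h6
    exact orderOf_eq_one_iff.1 (Nat.dvd_one.1 h6)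
  rw [h, h5, one_mul]

/-- `n = 3`, `p = 3 ∣ q - 1`, `q ≠ 4` -/
theorem nb_three (h3 : 3 ∣ Fintype.card F - 1) (h4 : Fintype.card F ≠ 4) :
    NB 3 (Matrix.ProjectiveSpecialLinearGroup (Fin 3) F) := by
  classical
  have : Fact (Nat.Prime 3) := ⟨Nat.prime_three⟩
  obtain ⟨a, ha1, ha⟩ := exists_root (p := 3) h3
  obtain ⟨l, hl, hl3, hlq⟩ := exists_prime_ne h3 h4
  have : Fact l.Prime := ⟨hl⟩
  obtain ⟨u, hu1, hu⟩ := exists_root (p := l) hlq
  have ha0 : a ≠ 0 := by
    rintro rfl
    rw [zero_pow (by norm_num)] at ha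
    exact zero_ne_one ha
  have hu0 : u ≠ 0 := by
    rintro rfl
    rw [zero_pow hl.ne_zero] at hu
    exact zero_ne_one hu
  have ha2 : a ^ 2 ≠ 1 := by
    intro h2
    apply ha1
    have : a ^ 3 = a ^ 2 * a := by ring
    rw [ha, h2, one_mul] at this
    exact this.symm
  have ha3 : a ^ 2 ≠ a := by
    intro h2
    apply ha1
    have : a * (a - 1) = 0 := by linear_combination h2
    rcases mul_eq_zero.1 this with h | h
    · exact (ha0 h).elim
    · exact sub_eq_zero.1 h
  let d : Fin 3 → F := ![1, a, a ^ 2]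
  have hd : Function.Injective d := by
    intro i j hij
    fin_cases i <;> fin_cases j
    · rfl
    · exact (ha1 (show (1 : F) = a from hij).symm).elim
    · exact (ha2 (show (1 : F) = a ^ 2 from hij).symm).elim
    · exact (ha1 (show a = (1 : F) from hij)).elim
    · rfl
    · exact (ha3 (show a = a ^ 2 from hij).symm).elim
    · exact (ha2 (show a ^ 2 = (1 : F) from hij)).elim
    · exact (ha3 (show a ^ 2 = a from hij)).elim
    · rfl
  let T : SpecialLinearGroup (Fin 3) F := ⟨diagonal d, by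
    rw [det_diagonal, Fin.prod_univ_three]
    change 1 * a * a ^ 2 = 1
    rw [one_mul, ← pow_succ', ha]⟩
  let X : SpecialLinearGroup (Fin 3) F := ⟨diagonal ![u, u⁻¹, 1], by
    rw [det_diagonal, Fin.prod_univ_three]
    change u * u⁻¹ * 1 = 1
    rw [mul_inv_cancel₀ hu0, mul_one]⟩
  let π : SpecialLinearGroup (Fin 3) F →* ProjectiveSpecialLinearGroup (Fin 3) F := QuotientGroup.mk' _
  have hπ : ∀ g, π g = 1 ↔ g ∈ Subgroup.center (SpecialLinearGroup (Fin 3) F) :=
    fun g => QuotientGroup.eq_one_iff _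
  have hdm : ∀ (e : Fin 3 → F) (m : ℕ) (A : SpecialLinearGroup (Fin 3) F), A.1 = diagonal e →
      (A ^ m).1 = diagonal (e ^ m) := by
    intro e m A hA
    have h1 : (A ^ m).1 = A.1 ^ m := Matrix.SpecialLinearGroup.coe_pow A m
    rw [h1, hA, Matrix.diagonal_pow]
  have hT3 : T ^ 3 = 1 := by
    apply Subtype.ext
    rw [hdm d 3 T rfl]
    change _ = (1 : Matrix (Fin 3) (Fin 3) F)
    rw [← Matrix.diagonal_one]
    congr 1
    funext i
    rw [Pi.pow_apply]
    fin_cases i
    · exact one_pow _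
    · exact ha
    · change (a ^ 2) ^ 3 = 1
      rw [← pow_mul, mul_comm, pow_mul, ha, one_pow]
  have hXl : X ^ l = 1 := by
    apply Subtype.ext
    rw [hdm _ l X rfl]
    change _ = (1 : Matrix (Fin 3) (Fin 3) F)
    rw [← Matrix.diagonal_one]
    congr 1
    funext i
    rw [Pi.pow_apply]
    fin_cases i
    · exact hu
    · change (u⁻¹) ^ l = 1
      rw [inv_pow, hu, inv_one]
    · exact one_pow _
  have hQ : IsPGroup 3 (Subgroup.zpowers (π T)) :=
    isPGroup_zpowers (k := 1) (by rw [← map_pow, pow_one, hT3, map_one])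
  -- lifts
  have lift : ∀ x ∈ Subgroup.centralizer ((Subgroup.zpowers (π T) : Subgroup _) : Set (ProjectiveSpecialLinearGroup (Fin 3) F)),
      ¬ 3 ∣ orderOf x → ∃ e : Fin 3 → F, ∃ g : SpecialLinearGroup (Fin 3) F, g.1 = diagonal e ∧ π g = x := by
    intro x hx ho
    obtain ⟨g, rfl⟩ := QuotientGroup.mk'_surjective _ x
    have h1 : π T * π g = π g * π T :=
      (Subgroup.mem_centralizer_iff.1 hx) _ (Subgroup.mem_zpowers _)
    rw [← map_mul, ← map_mul] at h1
    have h2 : (T * g)⁻¹ * (g * T) ∈ Subgroup.center (SpecialLinearGroup (Fin 3) F) := QuotientGroup.eq.1 h1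
    set z := (T * g)⁻¹ * (g * T) with hz
    have h3 : g * T = z * (T * g) := by
      rw [(Subgroup.mem_center_iff.1 h2 (T * g)).symm, hz]
      group
    have h4 : z ^ 3 = 1 := by
      obtain ⟨r, hr1, hr⟩ := Matrix.SpecialLinearGroup.mem_center_iff.1 h2
      apply Subtype.ext
      have h5 : (z ^ 3).1 = z.1 ^ 3 := Matrix.SpecialLinearGroup.coe_pow z 3
      rw [h5, ← show scalar (Fin 3) r = z.1 from hr, ← map_pow]
      have h6 : r ^ 3 = 1 := by simpa using hr1
      rw [h6, map_one]
      rfl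
    have h5 : g ^ orderOf (π g) ∈ Subgroup.center (SpecialLinearGroup (Fin 3) F) := by
      rw [← hπ, map_pow]
      exact pow_orderOf_eq_one _
    have h6 := comm_of_coprime h2 h3 h4 h5 ((Nat.prime_three.coprime_iff_not_dvd.2 ho).symm)
    obtain ⟨e, he⟩ := diag_of_comm hd (congrArg Subtype.val h6 : g.1 * diagonal d = diagonal d * g.1)
    exact ⟨e, g, he, rfl⟩
  refine NB.of_pprime_elements (Subgroup.zpowers (π T)) hQ ?_ (x := π X) ?_ ?_ ?_
  · intro x hx y hy hox hoy
    obtain ⟨e, g, hg, rfl⟩ := lift x hx hox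
    obtain ⟨e', g', hg', rfl⟩ := lift y hy hoy
    rw [← map_mul, ← map_mul]
    congr 1
    apply Subtype.ext
    change g.1 * g'.1 = g'.1 * g.1
    rw [hg, hg', diagonal_mul_diagonal, diagonal_mul_diagonal]
    congr 1
    funext i
    exact mul_comm _ _
  · rw [Subgroup.mem_centralizer_iff]
    intro y hy
    obtain ⟨i, rfl⟩ := Subgroup.mem_zpowers_iff.1 hy
    have h1 : Commute (π T) (π X) := by
      change π T * π X = π X * π T
      rw [← map_mul, ← map_mul]
      congr 1
      apply Subtype.ext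
      change diagonal _ * diagonal _ = diagonal _ * diagonal _
      rw [diagonal_mul_diagonal, diagonal_mul_diagonal]
      congr 1
      funext i
      exact mul_comm _ _
    exact h1.zpow_left i
  · intro h
    have h1 : orderOf (π X) ∣ l := orderOf_dvd_of_pow_eq_one (by rw [← map_pow, hXl, map_one])
    exact hl3 ((Nat.prime_dvd_prime_iff_eq Nat.prime_three hl).1 (h.trans h1)).symm
  · intro h
    rw [hπ] at h
    obtain ⟨r, hr1, hr⟩ := Matrix.SpecialLinearGroup.mem_center_iff.1 h
    apply hu1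
    have h1 := congrFun (congrFun (show scalar (Fin 3) r = diagonal ![u, u⁻¹, 1] from hr) 0) 0
    have h2 := congrFun (congrFun (show scalar (Fin 3) r = diagonal ![u, u⁻¹, 1] from hr) 2) 2
    simp at h1 h2
    rw [← h1, h2]

/-- **`PSL_n(q)`, `n ≥ 3`, `p` odd: more than one `p`-block** -/
theorem nb_ge_three (hp2 : p ≠ 2) {n : ℕ} (hn : 3 ≤ n)
    (h34 : Fintype.card F = 4 → p = 3 → n = 3 → NB 3 (Matrix.ProjectiveSpecialLinearGroup (Fin 3) F)) :
    NB p (Matrix.ProjectiveSpecialLinearGroup (Fin n) F) := by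
  have hsimple := S0249.result (F := F) n hn
  by_cases hpG : p ∣ Nat.card (ProjectiveSpecialLinearGroup (Fin n) F)
  swap
  · exact NB.of_not_dvd hpG
  have hq : 2 ≤ Fintype.card F := Fintype.one_lt_card
  by_cases hpq : p ∣ Fintype.card F
  · have hchar : CharP F p := by
      obtain ⟨r, hchar⟩ := CharP.exists F
      obtain ⟨m, hr, hm⟩ := FiniteField.card F r
      have : r = p := by
        rw [hm] at hpq
        exact ((Nat.prime_dvd_prime_iff_eq hp.out hr).1 (hp.out.dvd_of_dvd_pow hpq)).symm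
      rw [← this]
      exact hchar
    exact NB.of_lie (Or.inl ⟨F, inferInstance, inferInstance, hchar, n, by omega, fun h => absurd h (by omega), ⟨MulEquiv.refl _⟩⟩)
  by_cases hls : p ∣ ∑ i ∈ Finset.range n, Fintype.card F ^ i
  swap
  · exact cusp (by omega) hpq hpG hls
  by_cases hls' : p ∣ Fintype.card F ^ (n - 1) - 1
  swap
  · exact hyper hn hpq hpG hls'
  -- `p` divides `q - 1` and `n`
  have h1 : p ∣ Fintype.card F ^ n - 1 := by
    rw [← geom hq n]
    exact hls.mul_left _
  have h2 : p ∣ Fintype.card F - 1 := by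
    have h3 : p ∣ (Fintype.card F ^ n - 1) - (Fintype.card F ^ (n - 1) - 1) := Nat.dvd_sub h1 hls'
    obtain ⟨m, rfl⟩ : ∃ m, n = m + 1 := ⟨n - 1, by omega⟩
    rw [Nat.add_sub_cancel] at h3
    have h4 : (Fintype.card F ^ (m + 1) - 1) - (Fintype.card F ^ m - 1) = Fintype.card F ^ m * (Fintype.card F - 1) := by
      rw [Nat.mul_sub, mul_one, ← pow_succ]
      have : 1 ≤ Fintype.card F ^ m := Nat.one_le_pow _ _ (by omega)
      omega
    rw [h4] at h3
    rcases hp.out.dvd_mul.1 h3 with h5 | h5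
    · exact (hpq (hp.out.dvd_of_dvd_pow h5)).elim
    · exact h5
  have h3 : ∀ m : ℕ, ∑ i ∈ Finset.range m, Fintype.card F ^ i ≡ m [MOD p] := by
    intro m
    have h9 : Fintype.card F ≡ 1 [MOD p] := ((Nat.modEq_iff_dvd' (by omega)).2 h2).symm
    have h10 : ∑ i ∈ Finset.range m, Fintype.card F ^ i ≡ ∑ i ∈ Finset.range m, 1 [MOD p] := by
      refine Nat.ModEq.sum fun i _ => ?_
      have := h9.pow i
      rwa [one_pow] at this
    rwa [Finset.sum_const, Finset.card_range, smul_eq_mul, mul_one] at h10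
  have hpn : p ∣ n := (Nat.modEq_zero_iff_dvd).1 ((h3 n).symm.trans (Nat.modEq_zero_iff_dvd.2 hls))
  have hp3 : 3 ≤ p := by
    have := hp.out.two_le
    omega
  by_cases hn3 : n = 3
  · have hp3' : p = 3 := by
      rw [hn3] at hpn
      exact (Nat.prime_dvd_prime_iff_eq hp.out Nat.prime_three).1 hpn
    subst hn3
    subst hp3'
    by_cases h4 : Fintype.card F = 4
    · exact h34 h4 rfl rfl
    · exact nb_three h2 h4
  · have hn5 : 5 ≤ n := by
      obtain ⟨c, hc⟩ := hpn
      by_contra hlt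
      have hn4 : n = 4 := by omega
      rw [hn4] at hc
      have : p ∣ 4 := ⟨c, hc⟩
      have h5 : p ∣ 2 ^ 2 := this
      exact hp2 ((Nat.prime_dvd_prime_iff_eq hp.out Nat.prime_two).1 (hp.out.dvd_of_dvd_pow h5))
    obtain ⟨k, rfl⟩ : ∃ k, n = k + 2 := ⟨n - 2, by omega⟩
    refine nb_step h2 k (by omega) ?_
    have hsimple := S0249.result (F := F) k (by omega)
    by_cases hpG' : p ∣ Nat.card (ProjectiveSpecialLinearGroup (Fin k) F)
    swap
    · exact NB.of_not_dvd hpG'
    refine cusp (by omega) hpq hpG' ?_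
    intro h5
    have h6 : p ∣ k := (Nat.modEq_zero_iff_dvd).1 ((h3 k).symm.trans (Nat.modEq_zero_iff_dvd.2 h5))
    have h7 : p ∣ 2 := (Nat.dvd_add_right h6).1 hpn
    exact hp2 ((Nat.prime_dvd_prime_iff_eq hp.out Nat.prime_two).1 h7)

end main

end Cfsg.Agent.H7.NBPsl
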