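import Mathlib
import Cfsg.Agent.H7.NBpComp
import Cfsg.Agent.Characters.GaloisBasic

/-!
# Elements of order three and characters of degree divisible by three

* `vanish_three` : `u ^ 3 = 1`, `u ≠ 1`, `|C(u)| ≤ 9`, `3 ∤ |cl(u)|`, `3 ∣ χ(1)`: then `χ(u) = 0`;
* `nb_of_three` : and then there are at least two 3-blocks.
-/

set_option autoImplicit false

namespace Cfsg.Agent.H7.NBp

open Cfsg Cfsg.Agent.Characters

universe u

theorem sum_normSq_irr {G : Type u} [Group G] [Fintype G] {ψ : G → ℂ} (hψ : IsIrrCharacter G ψ) :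
    ∑ y : G, Complex.normSq (ψ y) = Nat.card G := by
  have h := Core.classInner_irr_self hψ
  rw [Core.classInner_def] at h
  have hn : (Nat.card G : ℂ) ≠ 0 := Core.card_ne_zero_complex
  have h1 := congrArg (fun z => (Nat.card G : ℂ) * z) h
  rw [← mul_assoc, mul_inv_cancel₀ hn, one_mul, mul_one] at h1
  have h2 : ((∑ y : G, Complex.normSq (ψ y) : ℝ) : ℂ) = ((Nat.card G : ℝ) : ℂ) := by
    push_cast
    rw [← h1]
    refine Finset.sum_congr rfl (fun y _ => ?_)
    rw [Complex.mul_conj]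
  exact_mod_cast h2

/-- `χ(u) \bar χ(u)` is a rational number for `u ^ 3 = 1` -/
theorem exists_rat_normSq {G : Type u} [Group G] [Finite G] {χ : G → ℂ} (hχ : IsIrrCharacter G χ)
    {x : G} (hx : x ^ 3 = 1) : ∃ q : ℚ, (Complex.normSq (χ x) : ℂ) = q := by
  have hc : IsCharacter G χ := Core.isIrr_isCharacter hχ
  have hinv : χ x⁻¹ = starRingEnd ℂ (χ x) := Core.isCharacter_apply_inv hc x
  have h1 : (Complex.normSq (χ x) : ℂ) = χ x * χ x⁻¹ := by
    rw [hinv, Complex.mul_conj]
  rw [h1]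
  refine GaloisBasic.exists_rat_of_forall_ringEquiv ?_ ?_
  · exact ((GaloisBasic.isIntegral_apply hc x).mul (GaloisBasic.isIntegral_apply hc x⁻¹)).tower_top
  · intro σ
    obtain ⟨m, hm, hσ⟩ := GaloisBasic.exists_pow_of_ringEquiv (G := G) σ
    rw [map_mul, hσ χ hc, hσ χ hc]
    by_cases hx1 : x = 1
    · rw [hx1]
      simp
    have h3 : orderOf x = 3 := orderOf_eq_prime hx hx1
    have hm3 : ¬ 3 ∣ m := by
      intro h
      have h4 : 3 ∣ Nat.card G := by
        rw [← h3]
        exact orderOf_dvd_natCard x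
      have h5 := Nat.dvd_gcd h h4
      rw [hm] at h5
      omega
    have hmod : m % 3 = 1 ∨ m % 3 = 2 := by omega
    have e : x ^ m = x ^ (m % 3) := by
      rw [← h3, pow_mod_orderOf]
    have h6 : x ^ 2 = x⁻¹ := by
      rw [eq_inv_iff_mul_eq_one, ← pow_succ, hx]
    rcases hmod with h | h
    · rw [h, pow_one] at e
      rw [inv_pow, e]
    · rw [h, h6] at e
      rw [inv_pow, e, inv_inv, mul_comm]

theorem vanish_three {G : Type u} [Group G] [Finite G] {χ : G → ℂ} (hχ : IsIrrCharacter G χ)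
    {x : G} (hx : x ^ 3 = 1) (hx1 : x ≠ 1) (hc : Nat.card (Subgroup.centralizer ({x} : Set G)) ≤ 9)
    (hi : ¬ 3 ∣ (Subgroup.centralizer ({x} : Set G)).index) {d : ℕ} (hd : χ 1 = d) (h3 : 3 ∣ d) : χ x = 0 := by
  classical
  let _ : Fintype G := Fintype.ofFinite G
  by_contra hne
  have hch : IsCharacter G χ := Core.isIrr_isCharacter hχ
  have hd0 : d ≠ 0 := by
    rintro rfl
    exact Central.irr_one_ne_zero hχ (by rw [hd]; simp)
  set I := (Subgroup.centralizer ({x} : Set G)).index with hI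
  -- the square of the absolute value
  obtain ⟨q, hq⟩ := exists_rat_normSq hχ hx
  have hint : IsIntegral ℤ (Complex.normSq (χ x) : ℂ) := by
    rw [← Complex.mul_conj, ← Core.isCharacter_apply_inv hch x]
    exact (GaloisBasic.isIntegral_apply hch x).mul (GaloisBasic.isIntegral_apply hch x⁻¹)
  obtain ⟨n, hn⟩ := GaloisBasic.exists_int_of_isIntegral hint ⟨q, hq⟩
  -- the central character
  have hα : IsIntegral ℤ (centralChar χ x) := Blocks.Central.isIntegral_centralChar hχ x
  have hα2 : IsIntegral ℤ (centralChar χ x * starRingEnd ℂ (centralChar χ x)) :=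
    hα.mul (hα.map ((starRingEnd ℂ).toIntAlgHom))
  have hval : centralChar χ x * starRingEnd ℂ (centralChar χ x) = ((I : ℂ) ^ 2 * n / (d : ℂ) ^ 2) := by
    unfold centralChar
    rw [hd, map_div₀, map_mul, Complex.conj_natCast, Complex.conj_natCast, ← hn, ← Complex.mul_conj, ← hI]
    field_simp
  obtain ⟨k, hk⟩ := GaloisBasic.exists_int_of_isIntegral hα2 ⟨(I : ℚ) ^ 2 * n / (d : ℚ) ^ 2, by
    rw [hval]; push_cast; rfl⟩
  rw [hval] at hk
  have hdC : (d : ℂ) ≠ 0 := Nat.cast_ne_zero.2 hd0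
  rw [div_eq_iff (pow_ne_zero 2 hdC)] at hk
  have hk' : (I : ℤ) ^ 2 * n = k * (d : ℤ) ^ 2 := by exact_mod_cast hk
  have h9 : (9 : ℤ) ∣ n := by
    have h5 : (9 : ℤ) ∣ (I : ℤ) ^ 2 * n := by
      rw [hk']
      obtain ⟨c, rfl⟩ := h3
      refine Dvd.dvd.mul_left ⟨(c : ℤ) ^ 2, by push_cast; ring⟩ _
    have h6 : IsCoprime (9 : ℤ) ((I : ℤ) ^ 2) := by
      have h7 : Nat.Coprime 9 (I ^ 2) := by
        refine Nat.Coprime.pow_right 2 ?_
        exact Nat.Coprime.pow_left 2 ((Nat.prime_three.coprime_iff_not_dvd).2 hi)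
      have := Nat.isCoprime_iff_coprime.2 h7
      exact_mod_cast this
    exact h6.dvd_of_dvd_mul_left h5
  have hnR : (Complex.normSq (χ x) : ℝ) = n := by exact_mod_cast hn
  have hpos : 0 < Complex.normSq (χ x) := Complex.normSq_pos.2 hne
  have hn0 : 0 < n := by
    rw [hnR] at hpos
    exact_mod_cast hpos
  have hn9 : 9 ≤ n := Int.le_of_dvd hn0 h9
  -- the sum over the class
  have hsum := sum_normSq_irr hχ
  let K : Finset G := Finset.univ.filter fun y => IsConj x y
  have hK : K.card = I := by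
    rw [hI, Blocks.Basic.index_centralizer_eq_ncard, Set.ncard_eq_toFinset_card']
    congr 1
    ext y
    simp [K]
  have h1K : (1 : G) ∉ K := by
    simp only [K, Finset.mem_filter, Finset.mem_univ, true_and]
    intro h
    exact hx1 (isConj_one_left.1 h)
  have hKval : ∀ y ∈ K, Complex.normSq (χ y) = n := by
    intro y hy
    simp only [K, Finset.mem_filter, Finset.mem_univ, true_and] at hy
    obtain ⟨c, hc'⟩ := isConj_iff.1 hy
    rw [← hnR, ← hc', Core.isIrr_isClassFunction hχ]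
  have hsub : ∑ y ∈ insert 1 K, Complex.normSq (χ y) ≤ ∑ y : G, Complex.normSq (χ y) :=
    Finset.sum_le_sum_of_subset_of_nonneg (Finset.subset_univ _) fun y _ _ => Complex.normSq_nonneg _
  rw [Finset.sum_insert h1K, Finset.sum_congr rfl hKval, Finset.sum_const, hK, hsum, hd] at hsub
  have hG : Nat.card G = Nat.card (Subgroup.centralizer ({x} : Set G)) * I :=
    (Subgroup.card_mul_index _).symm
  have h10 : (Nat.card G : ℝ) ≤ 9 * I := by
    rw [hG]
    have : (Nat.card (Subgroup.centralizer ({x} : Set G)) * I : ℕ) ≤ 9 * I := Nat.mul_le_mul_right _ hc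
    exact_mod_cast this
  have h11 : (9 : ℝ) ≤ n := by exact_mod_cast hn9
  have h12 : 0 < Complex.normSq (d : ℂ) := Complex.normSq_pos.2 hdC
  have h13 : (0 : ℝ) ≤ I := Nat.cast_nonneg I
  rw [nsmul_eq_mul] at hsub
  nlinarith

/-- Two 3-blocks from an element of order three with a centralizer of order at most nine. -/
theorem nb_of_three {G : Type u} [Group G] [Finite G] {χ : G → ℂ} (hχ : IsIrrCharacter G χ)
    {x : G} (hx : x ^ 3 = 1) (hx1 : x ≠ 1) (hc : Nat.card (Subgroup.centralizer ({x} : Set G)) ≤ 9)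
    (hi : ¬ 3 ∣ (Subgroup.centralizer ({x} : Set G)).index) {d : ℕ} (hd : χ 1 = d) (h3 : 3 ∣ d) : NB 3 G := by
  have : Fact (Nat.Prime 3) := ⟨Nat.prime_three⟩
  exact NB.of_vanish hχ (vanish_three hχ hx hx1 hc hi hd h3) hi

end Cfsg.Agent.H7.NBp
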