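import Mathlib
import Cfsg.Agent.H7.NB.Three
import Cfsg.Agent.H7.NB.Psl

/-!
# `PSL₃(4)` has more than one 3-block
-/

set_option autoImplicit false

namespace Cfsg.Agent.H7.NBPsl

open Cfsg Matrix Cfsg.Agent.H7.NBp

theorem pow_rel {F : Type*} [Field F] {n : Type*} [Fintype n] [DecidableEq n] {A D : Matrix n n F} {r : F}
    (h : A * D = r • (D * A)) (k : ℕ) : A ^ k * D = r ^ k • (D * A ^ k) := by
  induction k with
  | zero => rw [pow_zero, pow_zero, one_smul, Matrix.one_mul, Matrix.mul_one]
  | succ k ih =>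
    calc A ^ (k + 1) * D = A ^ k * (A * D) := by rw [pow_succ, Matrix.mul_assoc]
      _ = r • (A ^ k * D * A) := by rw [h, Matrix.mul_smul, ← Matrix.mul_assoc]
      _ = r ^ (k + 1) • (D * A ^ (k + 1)) := by
        rw [ih, Matrix.smul_mul, smul_smul, Matrix.mul_assoc, ← pow_succ, ← pow_succ']

theorem const_of_link {F : Type*} {e : Fin 3 → F} (h : ∀ i, ∃ j, j ≠ i ∧ e j = e i) : ∀ i, e i = e 0 := by
  have h0 : e 1 = e 0 ∨ e 2 = e 0 := by
    obtain ⟨j, hj, he⟩ := h 0
    fin_cases j
    · exact (hj rfl).elim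
    · exact Or.inl he
    · exact Or.inr he
  have h1 : e 0 = e 1 ∨ e 2 = e 1 := by
    obtain ⟨j, hj, he⟩ := h 1
    fin_cases j
    · exact Or.inl he
    · exact (hj rfl).elim
    · exact Or.inr he
  have h2 : e 0 = e 2 ∨ e 1 = e 2 := by
    obtain ⟨j, hj, he⟩ := h 2
    fin_cases j
    · exact Or.inl he
    · exact Or.inr he
    · exact (hj rfl).elim
  intro i
  fin_cases i
  · rfl
  · change e 1 = e 0
    rcases h1 with h | h
    · exact h.symm
    · rcases h0 with h' | h'
      · exact h'
      · rw [← h, h']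
  · change e 2 = e 0
    rcases h2 with h | h
    · exact h.symm
    · rcases h0 with h' | h'
      · rw [← h, h']
      · exact h'

section

variable {F : Type} [Field F] [Fintype F]

/-- the centralizer of the image of `diag(1, a, a²)` in `PSL₃(4)` is elementary -/
theorem cube_center (hF : Fintype.card F = 4) {d : Fin 3 → F} (hd : Function.Injective d)
    (hd0 : ∀ i, d i ≠ 0) {g : Matrix.SpecialLinearGroup (Fin 3) F} {r : F} (hr : r ^ 3 = 1)
    (h : g.1 * diagonal d = r • (diagonal d * g.1)) :
    g ^ 3 ∈ Subgroup.center (Matrix.SpecialLinearGroup (Fin 3) F) := by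
  have hunit : ∀ x : F, x ≠ 0 → x ^ 3 = 1 := by
    intro x hx
    have := FiniteField.pow_card_sub_one_eq_one x hx
    rwa [hF] at this
  have h3 : (g ^ 3).1 = g.1 ^ 3 := Matrix.SpecialLinearGroup.coe_pow g 3
  have hdet : g.1.det = 1 := g.2
  rw [Matrix.SpecialLinearGroup.mem_center_iff]
  change ∃ c, _ ∧ scalar (Fin 3) c = (g ^ 3).1
  rw [h3]
  generalize g.1 = A at *
  have hcomm : A ^ 3 * diagonal d = diagonal d * A ^ 3 := by
    rw [pow_rel h, hr, one_smul]
  obtain ⟨e, he⟩ := diag_of_comm hd hcomm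
  suffices hs : ∃ c : F, ∀ i, e i = c by
    obtain ⟨c, hc⟩ := hs
    have he' : A ^ 3 = scalar (Fin 3) c := by
      rw [he]
      change _ = diagonal fun _ => c
      congr 1
      funext i
      exact hc i
    refine ⟨c, ?_, he'.symm⟩
    have h4 : (A ^ 3).det = 1 := by rw [det_pow, hdet, one_pow]
    rw [he'] at h4
    change (diagonal fun _ => c).det = 1 at h4
    rw [det_diagonal, Finset.prod_const, Finset.card_univ] at h4
    exact h4
  -- every row has a nonzero entry
  have hrow : ∀ i, ∃ j, A i j ≠ 0 := by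
    intro i
    by_contra hcon
    push Not at hcon
    have h1 := Matrix.det_eq_zero_of_row_eq_zero (A := A) i hcon
    rw [hdet] at h1
    exact one_ne_zero h1
  have hlink : ∀ i j, A i j ≠ 0 → e j = e i ∧ d j = r * d i := by
    intro i j hij
    constructor
    · have h1 : A * A ^ 3 = A ^ 3 * A := by
        rw [← pow_succ, ← pow_succ']
      rw [he] at h1
      have := congrFun (congrFun h1 i) j
      rw [Matrix.mul_diagonal, Matrix.diagonal_mul] at this
      have h2 : (e j - e i) * A i j = 0 := by linear_combination this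
      exact sub_eq_zero.1 ((mul_eq_zero.1 h2).resolve_right hij)
    · have := congrFun (congrFun h i) j
      rw [Matrix.mul_diagonal, Matrix.smul_apply, Matrix.diagonal_mul, smul_eq_mul] at this
      have h2 : (d j - r * d i) * A i j = 0 := by linear_combination this
      exact sub_eq_zero.1 ((mul_eq_zero.1 h2).resolve_right hij)
  by_cases hr1 : r = 1
  · -- diagonal
    rw [hr1, one_smul] at h
    obtain ⟨f, hf⟩ := diag_of_comm hd h
    refine ⟨1, fun i => ?_⟩
    have hfi : f i ≠ 0 := by
      intro h0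
      obtain ⟨j, hj⟩ := hrow i
      apply hj
      rw [hf]
      by_cases hij : i = j
      · subst hij
        rw [diagonal_apply_eq, h0]
      · rw [diagonal_apply_ne _ hij]
    have h4 : (A ^ 3) i i = f i ^ 3 := by
      rw [hf, diagonal_pow, diagonal_apply_eq, Pi.pow_apply]
    rw [he, diagonal_apply_eq] at h4
    rw [h4, hunit _ hfi]
  · -- no fixed point
    refine ⟨e 0, const_of_link fun i => ?_⟩
    obtain ⟨j, hj⟩ := hrow i
    obtain ⟨h4, h5⟩ := hlink i j hj
    refine ⟨j, ?_, h4⟩
    rintro rfl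
    apply hr1
    have h6 : (r - 1) * d j = 0 := by linear_combination -h5
    exact sub_eq_zero.1 ((mul_eq_zero.1 h6).resolve_right (hd0 j))

theorem card_l34 (hF : Fintype.card F = 4) :
    Nat.card (Matrix.ProjectiveSpecialLinearGroup (Fin 3) F) = 20160 := by
  have h := card_psl (F := F) (n := 3) (by norm_num)
  rw [hF, Finset.prod_range_succ, Finset.prod_range_succ, Finset.prod_range_succ, Finset.prod_range_zero] at h
  norm_num at h
  omega

/-- **`PSL₃(4)` has more than one 3-block** -/
theorem nb_l34 (hF : Fintype.card F = 4) : NB 3 (Matrix.ProjectiveSpecialLinearGroup (Fin 3) F) := by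
  classical
  have : Fact (Nat.Prime 3) := ⟨Nat.prime_three⟩
  have h3 : 3 ∣ Fintype.card F - 1 := by rw [hF]
  obtain ⟨a, ha1, ha⟩ := exists_root (p := 3) h3
  have ha0 : a ≠ 0 := by
    rintro rfl
    rw [zero_pow (by norm_num)] at ha
    exact zero_ne_one ha
  have ha2 : a ^ 2 ≠ 1 := by
    intro h2
    apply ha1
    have : a ^ 3 = a ^ 2 * a := by ring
    rw [ha, h2, one_mul] at this
    exact this.symm
  have ha3 : a ^ 2 ≠ a := by
    intro h2
    apply ha1
    have : a * (a - 1) = 0 := by linear_combination h2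
    rcases mul_eq_zero.1 this with h | h
    · exact (ha0 h).elim
    · exact sub_eq_zero.1 h
  let d : Fin 3 → F := ![1, a, a ^ 2]
  have hd : Function.Injective d := by
    intro i j hij
    fin_cases i <;> fin_cases j
    · rfl
    · exact (ha1 (show (1 : F) = a from hij).symm).elim
    · exact (ha2 (show (1 : F) = a ^ 2 from hij).symm).elim
    · exact (ha1 (show a = (1 : F) from hij)).elim
    · rfl
    · exact (ha3 (show a = a ^ 2 from hij).symm).elim
    · exact (ha2 (show a ^ 2 = (1 : F) from hij)).elim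
    · exact (ha3 (show a ^ 2 = a from hij)).elim
    · rfl
  have hd0 : ∀ i, d i ≠ 0 := by
    intro i
    fin_cases i
    · exact one_ne_zero
    · exact ha0
    · exact pow_ne_zero 2 ha0
  let T : Matrix.SpecialLinearGroup (Fin 3) F := ⟨diagonal d, by
    rw [det_diagonal, Fin.prod_univ_three]
    change 1 * a * a ^ 2 = 1
    rw [one_mul, ← pow_succ', ha]⟩
  let π : Matrix.SpecialLinearGroup (Fin 3) F →* ProjectiveSpecialLinearGroup (Fin 3) F := QuotientGroup.mk' _
  have hπ : ∀ g, π g = 1 ↔ g ∈ Subgroup.center (Matrix.SpecialLinearGroup (Fin 3) F) :=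
    fun g => QuotientGroup.eq_one_iff _
  have hT3 : T ^ 3 = 1 := by
    apply Subtype.ext
    have h1 : (T ^ 3).1 = T.1 ^ 3 := Matrix.SpecialLinearGroup.coe_pow T 3
    rw [h1]
    change (diagonal d) ^ 3 = (1 : Matrix (Fin 3) (Fin 3) F)
    rw [diagonal_pow, ← Matrix.diagonal_one]
    congr 1
    funext i
    rw [Pi.pow_apply]
    fin_cases i
    · exact one_pow _
    · exact ha
    · change (a ^ 2) ^ 3 = 1
      rw [← pow_mul, mul_comm, pow_mul, ha, one_pow]
  have hT1 : π T ≠ 1 := by
    intro h
    rw [hπ] at h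
    obtain ⟨r, hr1, hr⟩ := Matrix.SpecialLinearGroup.mem_center_iff.1 h
    have hr' : scalar (Fin 3) r = diagonal d := hr
    have h1 := congrFun (congrFun hr' 0) 0
    have h2 := congrFun (congrFun hr' 1) 1
    rw [Matrix.scalar_apply, diagonal_apply_eq, diagonal_apply_eq] at h1 h2
    exact ha1 (show a = 1 from (h2.symm.trans h1))
  have hcard := card_l34 hF
  -- the centralizer has exponent three
  have hexp : ∀ x ∈ Subgroup.centralizer ({π T} : Set (ProjectiveSpecialLinearGroup (Fin 3) F)), x ^ 3 = 1 := by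
    intro x hx
    obtain ⟨g, rfl⟩ := QuotientGroup.mk'_surjective _ x
    have h1 : π T * π g = π g * π T :=
      (Subgroup.mem_centralizer_iff.1 hx) _ rfl
    rw [← map_mul, ← map_mul] at h1
    have h2 : (T * g)⁻¹ * (g * T) ∈ Subgroup.center (Matrix.SpecialLinearGroup (Fin 3) F) := QuotientGroup.eq.1 h1
    obtain ⟨r, -, hr1, hr⟩ := H128.ObPsl.rel_mat h2 (g := g) (t := T) (by
      rw [(Subgroup.mem_center_iff.1 h2 (T * g)).symm]
      group)
    have h3 := cube_center hF hd hd0 (g := g) (by simpa using hr1) hr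
    have h4 := (hπ _).2 h3
    rw [map_pow] at h4
    exact h4
  have hp : IsPGroup 3 (Subgroup.centralizer ({π T} : Set (ProjectiveSpecialLinearGroup (Fin 3) F))) := by
    intro x
    refine ⟨1, Subtype.ext ?_⟩
    exact hexp x x.2
  obtain ⟨k, hk⟩ := IsPGroup.iff_card.1 hp
  have hdvd : 3 ^ k ∣ 20160 := by
    rw [← hk, ← hcard]
    exact Subgroup.card_subgroup_dvd_card _
  have hk2 : k ≤ 2 := by
    by_contra hk3
    have : 3 ^ 3 ∣ 20160 := (pow_dvd_pow 3 (show 3 ≤ k by omega)).trans hdvd
    norm_num at this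
  have hle : Nat.card (Subgroup.centralizer ({π T} : Set (ProjectiveSpecialLinearGroup (Fin 3) F))) ≤ 9 := by
    rw [hk]
    exact (Nat.pow_le_pow_right (by norm_num) hk2)
  -- the centralizer contains a Sylow subgroup
  have hge : 9 ∣ Nat.card (Subgroup.centralizer ({π T} : Set (ProjectiveSpecialLinearGroup (Fin 3) F))) := by
    have hQ : IsPGroup 3 (Subgroup.zpowers (π T)) :=
      isPGroup_zpowers (k := 1) (by rw [← map_pow, pow_one, hT3, map_one])
    obtain ⟨P, hP⟩ := hQ.exists_le_sylow
    have hPc : Nat.card P = 3 ^ 2 := by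
      rw [P.card_eq_multiplicity, hcard]
      have : (20160 : ℕ).factorization 3 = 2 := by
        rw [show (20160 : ℕ) = 3 ^ 2 * 2240 by norm_num,
          Nat.factorization_mul (by norm_num) (by norm_num), Finsupp.add_apply,
          Nat.Prime.factorization_pow Nat.prime_three, Finsupp.single_eq_same,
          Nat.factorization_eq_zero_of_not_dvd (by norm_num)]
      rw [this]
    have hle' : (P : Subgroup (ProjectiveSpecialLinearGroup (Fin 3) F)) ≤
        Subgroup.centralizer ({π T} : Set (ProjectiveSpecialLinearGroup (Fin 3) F)) := by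
      intro y hy
      rw [Subgroup.mem_centralizer_iff]
      rintro _ rfl
      have hT : π T ∈ (P : Subgroup (ProjectiveSpecialLinearGroup (Fin 3) F)) := hP (Subgroup.mem_zpowers _)
      have := IsPGroup.isMulCommutative_of_card_eq_prime_sq hPc
      exact congrArg Subtype.val (mul_comm' (⟨π T, hT⟩ : P) ⟨y, hy⟩)
    have h9 : (9 : ℕ) = Nat.card P := by rw [hPc]; norm_num
    rw [h9]
    exact Subgroup.card_dvd_of_le hle'
  have hind : ¬ 3 ∣ (Subgroup.centralizer ({π T} : Set (ProjectiveSpecialLinearGroup (Fin 3) F))).index := by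
    intro h
    have h1 := Subgroup.card_mul_index (Subgroup.centralizer ({π T} : Set (ProjectiveSpecialLinearGroup (Fin 3) F)))
    rw [hcard] at h1
    have h2 : 9 * 3 ∣ 20160 := by
      rw [← h1]
      exact Nat.mul_dvd_mul hge h
    norm_num at h2
  obtain ⟨φ, t, ht, hφ⟩ := H113.PSL.Degrees.exists_cusp (F := F) (n := 3) (by norm_num) (H113.PSL.Main.hasCusp F 3 (by norm_num))
  rw [hF] at ht hφ
  have hφ' : charDegree (φ : ProjectiveSpecialLinearGroup (Fin 3) F → ℂ) * t = 45 := by
    rw [hφ]
    decide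
  have ht' : t ∣ 3 := ht
  refine nb_of_three φ.2 (x := π T) (by rw [← map_pow, hT3, map_one]) hT1 hle hind
    (d := charDegree (φ : ProjectiveSpecialLinearGroup (Fin 3) F → ℂ)) ?_ ?_
  · exact Blocks.Basic.irr_one_eq_charDegree φ.2
  · rcases (Nat.dvd_prime Nat.prime_three).1 ht' with h | h
    · rw [h] at hφ'
      omega
    · rw [h] at hφ'
      omega

end

end Cfsg.Agent.H7.NBPsl
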