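import Mathlib
import Cfsg.Agent.H7.NB.Psl
import Cfsg.Agent.H7.NB.LThreeFour
import Cfsg.Agent.S0252
import Cfsg.Agent.S0253

/-!
# `PSL_n(q)` has more than one `p`-block, `p` odd: the row
-/

set_option autoImplicit false

namespace Cfsg.Agent.H7.NBPsl

open Cfsg Matrix Cfsg.Agent.H7.NBp

section main

variable {F : Type} [Field F] [Fintype F] {p : ℕ} [hp : Fact p.Prime]

theorem sum_two (q : ℕ) : ∑ i ∈ Finset.range 2, q ^ i = q + 1 := by
  rw [Finset.sum_range_succ, Finset.sum_range_succ, Finset.sum_range_zero]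
  ring

/-- **`PSL₂(q)`, `q ≥ 4`, `p` odd: more than one `p`-block** -/
theorem nb_two (hp2 : p ≠ 2) (h4 : 4 ≤ Fintype.card F) :
    NB p (Matrix.ProjectiveSpecialLinearGroup (Fin 2) F) := by
  have hsimple : IsSimpleGroup (Matrix.ProjectiveSpecialLinearGroup (Fin 2) F) :=
    Matrix.ProjectiveSpecialLinearGroup.rank_two_simple (by rw [Nat.card_eq_fintype_card]; omega)
  by_cases hpG : p ∣ Nat.card (ProjectiveSpecialLinearGroup (Fin 2) F)
  swap
  · exact NB.of_not_dvd hpG
  by_cases hpq : p ∣ Fintype.card F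
  · have hchar : CharP F p := by
      obtain ⟨r, hchar⟩ := CharP.exists F
      obtain ⟨m, hr, hm⟩ := FiniteField.card F r
      have : r = p := by
        rw [hm] at hpq
        exact ((Nat.prime_dvd_prime_iff_eq hp.out hr).1 (hp.out.dvd_of_dvd_pow hpq)).symm
      rw [← this]
      exact hchar
    exact NB.of_lie (Or.inl ⟨F, inferInstance, inferInstance, hchar, 2, le_rfl, fun _ => by omega, ⟨MulEquiv.refl _⟩⟩)
  by_cases hls : p ∣ ∑ i ∈ Finset.range 2, Fintype.card F ^ i
  swap
  · exact cusp le_rfl hpq hpG hls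
  rw [sum_two] at hls
  by_cases h5 : Fintype.card F = 5
  · -- `PSL₂(5) = PSL₂(4)`
    have hp3 : p = 3 := by
      rw [h5] at hls
      have h6 : p ∣ 2 * 3 := hls
      rcases hp.out.dvd_mul.1 h6 with h | h
      · exact (hp2 ((Nat.prime_dvd_prime_iff_eq hp.out Nat.prime_two).1 h)).elim
      · exact (Nat.prime_dvd_prime_iff_eq hp.out Nat.prime_three).1 h
    subst hp3
    have : Fact (Nat.Prime 2) := ⟨Nat.prime_two⟩
    let K := GaloisField 2 2
    have : Fintype K := Fintype.ofFinite _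
    have hK : Fintype.card K = 4 := by
      rw [← Nat.card_eq_fintype_card, GaloisField.card 2 2 (by norm_num)]
      norm_num
    obtain ⟨e1⟩ := S0252.result (F := K) hK
    obtain ⟨e2⟩ := S0253.result (F := F) h5
    refine NB.iso (e1.trans e2.symm) ?_
    refine cusp (F := K) le_rfl (by rw [hK]; norm_num) ?_ (by rw [sum_two, hK]; norm_num)
    have h7 := Nat.card_congr (e1.trans e2.symm).toEquiv
    rw [h7]
    exact hpG
  · exact two hp2 h4 h5 hpG hls

/-- **`PSL_n(q)`, `p` odd: more than one `p`-block** -/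
theorem nb_psl (hp2 : p ≠ 2) {n : ℕ} (hn : 2 ≤ n) (h4 : n = 2 → 4 ≤ Fintype.card F) :
    NB p (Matrix.ProjectiveSpecialLinearGroup (Fin n) F) := by
  by_cases hn2 : n = 2
  · subst hn2
    exact nb_two hp2 (h4 rfl)
  · refine nb_ge_three hp2 (by omega) ?_
    rintro hF rfl rfl
    exact nb_l34 hF

/-- **the row of the linear groups** -/
theorem nb_isPSL (hp2 : p ≠ 2) {S : Type*} [Group S] (h : IsPSL S) : NB p S := by
  obtain ⟨F, _, _, n, hn, h4, ⟨e⟩⟩ := h
  exact NB.iso e.symm (nb_psl hp2 hn h4)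

end main

end Cfsg.Agent.H7.NBPsl
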