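import Mathlib
import Cfsg.Agent.H7.NBpComp
import Cfsg.Agent.H7.NB.PslMain
import Cfsg.Agent.GenPsu.Block
import Cfsg.Agent.S0281
import Cfsg.Agent.S0822

/-!
# `PSU_n(q)`: block steps for `NB p`, `p ∣ q² - 1`

* `nb_lift` : `φ : X → K` onto with central kernel, `y ∈ X` a `p`-element, `e : H → X` with image centralized by `y`
  and normalized by `C_X(y)`: `NB p H` implies `NB p K`;
* `nb_abelian_cent` : `C_G(t)` abelian;
* `nb_step` : blocks of `SU_n`.
-/

set_option autoImplicit false

namespace Cfsg.Agent.H7.NBPsu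

open Cfsg Matrix Cfsg.Agent.H7.NBp Subgroup

section groups

variable {p : ℕ} [hp : Fact p.Prime]

theorem nb_of_subnormal {G : Type*} [Group G] [Finite G] {N : Subgroup G} (h : N.IsSubnormal) (hN : NB p N) :
    NB p G := by
  induction h with
  | top => exact NB.iso Subgroup.topEquiv hN
  | step H K hle _ hn ih =>
    refine ih ?_
    have := hn
    exact NB.of_normal (H.subgroupOf K) (NB.iso (Subgroup.subgroupOfEquivOfLe hle).symm hN)

/-- `NB` passes from a subgroup of the centralizer of a `p`-element through a central quotient -/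
theorem nb_lift {X H K : Type*} [Group X] [Group H] [Group K] [Finite K] (φ : X →* K)
    (hs : Function.Surjective φ) (hk : φ.ker ≤ center X) (e : H →* X) {y : X} (hy : ∃ k : ℕ, y ^ p ^ k = 1)
    (hz : ∀ a, e a * y = y * e a) (hn : ∀ g : X, g * y = y * g → ∀ a, ∃ b, e b = g * e a * g⁻¹)
    (hi : Function.Injective (φ.comp e)) (hH : NB p H) : NB p K := by
  have hle : (φ.comp e).range ≤ centralizer ({φ y} : Set K) := by
    rintro _ ⟨a, rfl⟩
    rw [mem_centralizer_singleton_iff]
    simp only [MonoidHom.comp_apply]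
    rw [← map_mul, ← map_mul, hz a]
  have h1 := Cfsg.Agent.GenPsu.subnormal_lift φ hs hk e hz hn
  refine NB.of_centralizer_singleton (φ y) ?_ (nb_of_subnormal h1 ?_)
  · obtain ⟨k, hk⟩ := hy
    exact ⟨k, by rw [← map_pow, hk, map_one]⟩
  · exact NB.iso ((MonoidHom.ofInjective hi).trans (Subgroup.subgroupOfEquivOfLe hle).symm) hH

/-- `NB` of a central quotient gives `NB` -/
theorem nb_of_center {X : Type*} [Group X] [Finite X] (h : NB p (X ⧸ center X)) : NB p X :=
  NB.of_surjective (QuotientGroup.mk' (center X)) (QuotientGroup.mk'_surjective _)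
    (by rw [QuotientGroup.ker_mk']) h

/-- a `p`-element with an abelian centralizer which is not a `p`-group modulo the center -/
theorem nb_abelian_cent {G : Type*} [Group G] [Finite G] {t u : G} (ht : t ^ p = 1)
    (hab : ∀ a b : G, a * t = t * a → b * t = t * b → a * b = b * a) (hu : u * t = t * u) {m : ℕ}
    (hum : u ^ m = 1) (hpm : ¬ p ∣ m) (hu1 : u ∉ center G) : NB p (G ⧸ center G) := by
  let π : G →* G ⧸ center G := QuotientGroup.mk' (center G)
  have hπ : ∀ g, π g = 1 ↔ g ∈ center G := fun g => QuotientGroup.eq_one_iff _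
  have hQ : IsPGroup p (Subgroup.zpowers (π t)) :=
    NBPsl.isPGroup_zpowers (k := 1) (by rw [← map_pow, pow_one, ht, map_one])
  have lift : ∀ x ∈ Subgroup.centralizer ((Subgroup.zpowers (π t) : Subgroup _) : Set (G ⧸ center G)),
      ¬ p ∣ orderOf x → ∃ g : G, g * t = t * g ∧ π g = x := by
    intro x hx ho
    obtain ⟨g, rfl⟩ := QuotientGroup.mk'_surjective _ x
    have h1 : π t * π g = π g * π t :=
      (Subgroup.mem_centralizer_iff.1 hx) _ (Subgroup.mem_zpowers _)
    rw [← map_mul, ← map_mul] at h1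
    have h2 : (t * g)⁻¹ * (g * t) ∈ center G := QuotientGroup.eq.1 h1
    set z := (t * g)⁻¹ * (g * t) with hz
    have h3 : g * t = z * (t * g) := by
      rw [(Subgroup.mem_center_iff.1 h2 (t * g)).symm, hz]
      group
    have h4 : z ^ p = 1 := by
      have h5 : ∀ k : ℕ, g * t ^ k = z ^ k * (t ^ k * g) := by
        intro k
        induction k with
        | zero => simp
        | succ k ih =>
          calc g * t ^ (k + 1) = (g * t ^ k) * t := by rw [pow_succ]; group
            _ = z ^ k * t ^ k * (g * t) := by rw [ih]; group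
            _ = z ^ k * (t ^ k * z) * (t * g) := by rw [h3]; group
            _ = z ^ k * (z * t ^ k) * (t * g) := by rw [(Subgroup.mem_center_iff.1 h2) (t ^ k)]
            _ = z ^ (k + 1) * (t ^ (k + 1) * g) := by rw [pow_succ, pow_succ]; group
      have h6 := h5 p
      rw [ht, mul_one, one_mul] at h6
      exact (mul_eq_right.1 h6.symm)
    have h5 : g ^ orderOf (π g) ∈ center G := by
      rw [← hπ, map_pow]
      exact pow_orderOf_eq_one _
    have h6 := NBPsl.comm_of_coprime h2 h3 h4 h5 ((hp.out.coprime_iff_not_dvd.2 ho).symm)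
    exact ⟨g, h6, rfl⟩
  refine NB.of_pprime_elements (Subgroup.zpowers (π t)) hQ ?_ (x := π u) ?_ ?_ ?_
  · intro x hx y hy hox hoy
    obtain ⟨g, hg, rfl⟩ := lift x hx hox
    obtain ⟨g', hg', rfl⟩ := lift y hy hoy
    rw [← map_mul, ← map_mul, hab g g' hg hg']
  · rw [Subgroup.mem_centralizer_iff]
    intro y hy
    obtain ⟨i, rfl⟩ := Subgroup.mem_zpowers_iff.1 hy
    have h1 : Commute (π t) (π u) := by
      change π t * π u = π u * π t
      rw [← map_mul, ← map_mul, hu]
    exact h1.zpow_left i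
  · intro h
    have h1 : orderOf (π u) ∣ m := orderOf_dvd_of_pow_eq_one (by rw [← map_pow, hum, map_one])
    exact hpm (h.trans h1)
  · intro h
    rw [hπ] at h
    exact hu1 h

end groups

section su

open Cfsg.Agent.Phan

variable {F : Type*} [Field F] [Fintype F] {q n : ℕ} {p : ℕ} [hp : Fact p.Prime]

/-- **the block step** -/
theorem nb_step (hF : Fintype.card F = q ^ 2) (hn : 3 ≤ n) {l : ℕ} {e : Fin l → Fin n}
    (he : Function.Injective e) {x₀ : Fin n} (hx : ∀ i, x₀ ≠ e i) {y : SU n F q}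
    (hy : ∃ k : ℕ, y ^ p ^ k = 1) (hc : ∀ s, ext hF e he s * y = y * ext hF e he s)
    (hP : ∀ g : SU n F q, g * y = y * g →
      mat g * (inc F e * (inc F e)ᵀ) = inc F e * (inc F e)ᵀ * mat g)
    (h : NB p (SU l F q)) : NB p (PSU n F q) := by
  refine nb_lift (QuotientGroup.mk' (center (SU n F q))) (QuotientGroup.mk'_surjective _)
    (by rw [QuotientGroup.ker_mk']) (ext hF e he) hy hc
    (fun g hg s => Cfsg.Agent.GenPsu.ext_conj_proj hF he (hP g hg) s) ?_ h
  rw [injective_iff_map_eq_one]
  intro s hs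
  have h1 : ext hF e he s ∈ (QuotientGroup.mk' (center (SU n F q))).ker := hs
  rw [QuotientGroup.ker_mk'] at h1
  exact Cfsg.Agent.GenPsu.ext_center hF he hn hx h1

/-- diagonal `y` -/
theorem nb_step_diag (hF : Fintype.card F = q ^ 2) (hn : 3 ≤ n) {l : ℕ} {e : Fin l → Fin n}
    (he : Function.Injective e) {x₀ : Fin n} (hx : ∀ i, x₀ ≠ e i) {a b : F} (hab : a ≠ b) {d : Fin n → F}
    (hd1 : ∀ i, d (e i) = a) (hd2 : ∀ x, x ∉ Set.range e → d x = b) {y : SU n F q} (hyd : mat y = diagonal d)
    (hy : ∃ k : ℕ, y ^ p ^ k = 1) (h : NB p (SU l F q)) : NB p (PSU n F q) := by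
  refine nb_step hF hn he hx hy (Cfsg.Agent.GenPsu.ext_comm_diag hF he hd1 hd2 hyd) (fun g hg => ?_) h
  refine Cfsg.Agent.GenPsu.comm_proj_diag he hab hd1 hd2 ?_
  rw [← hyd, ← mat_mul, ← mat_mul, hg]

omit [Fintype F] in
/-- elements commuting with a plane element without fixed points -/
theorem comm_proj {f : Fin 2 → Fin n} (hf : Function.Injective f) {X : Matrix (Fin 2) (Fin 2) F}
    (hX : (X - 1).det ≠ 0) {G : Matrix (Fin n) (Fin n) F} (h : G * extM f X = extM f X * G) :
    G * (inc F f * (inc F f)ᵀ) = inc F f * (inc F f)ᵀ * G := by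
  set N := inc F f * (X - 1) * (inc F f)ᵀ with hN
  have h1 : G * N = N * G := by
    rw [extM, Matrix.mul_add, Matrix.add_mul, Matrix.mul_one, Matrix.one_mul] at h
    exact add_left_cancel h
  have h2 : (X - 1).det • (1 : Matrix (Fin 2) (Fin 2) F) = (X - 1).trace • (X - 1) - (X - 1) * (X - 1) := by
    generalize X - 1 = A
    ext i j
    fin_cases i <;> fin_cases j <;>
      simp [Matrix.mul_apply, Matrix.det_fin_two, Matrix.trace_fin_two, Fin.sum_univ_two] <;> ring
  have h3 : N * N = inc F f * ((X - 1) * (X - 1)) * (inc F f)ᵀ := by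
    rw [hN]
    calc inc F f * (X - 1) * (inc F f)ᵀ * (inc F f * (X - 1) * (inc F f)ᵀ)
        = inc F f * (X - 1) * ((inc F f)ᵀ * inc F f) * (X - 1) * (inc F f)ᵀ := by
          simp only [Matrix.mul_assoc]
      _ = _ := by rw [incT_mul_inc hf, Matrix.mul_one, Matrix.mul_assoc (inc F f)]
  have h4 : (X - 1).det • (inc F f * (inc F f)ᵀ) = (X - 1).trace • N - N * N := by
    calc (X - 1).det • (inc F f * (inc F f)ᵀ)
        = inc F f * ((X - 1).det • (1 : Matrix (Fin 2) (Fin 2) F)) * (inc F f)ᵀ := by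
          rw [Matrix.mul_smul, Matrix.mul_one, Matrix.smul_mul]
      _ = _ := by
          rw [h2, Matrix.mul_sub, Matrix.sub_mul, h3, Matrix.mul_smul, Matrix.smul_mul]
  have h5 : G * ((X - 1).det • (inc F f * (inc F f)ᵀ)) = ((X - 1).det • (inc F f * (inc F f)ᵀ)) * G := by
    have hc : Commute G N := h1
    rw [h4]
    exact ((hc.smul_right _).sub_right (hc.mul_right hc)).eq
  rw [Matrix.mul_smul, Matrix.smul_mul] at h5
  exact smul_right_injective _ hX h5

omit [Fintype F] in
/-- an element of order `p` of `SL₂` has no fixed point -/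
theorem det_sub_one_ne {r : ℕ} [CharP F r] (hr : r.Prime) (hpr : p ≠ r) {X : Matrix (Fin 2) (Fin 2) F}
    (hdet : X.det = 1) (hX : X ^ p = 1) (hX1 : X ≠ 1) : (X - 1).det ≠ 0 := by
  intro h
  apply hX1
  have : Fact r.Prime := ⟨hr⟩
  rw [Matrix.det_fin_two] at h hdet
  simp only [Matrix.sub_apply, Matrix.one_apply_eq, Matrix.one_apply_ne (show (0 : Fin 2) ≠ 1 by decide),
    Matrix.one_apply_ne (show (1 : Fin 2) ≠ 0 by decide), sub_zero] at h
  have htr : X 0 0 + X 1 1 = 2 := by linear_combination hdet - h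
  have h1 : (X - 1) ^ 2 = 0 := by
    rw [pow_two]
    ext i j
    fin_cases i <;> fin_cases j <;> simp [Matrix.mul_apply, Fin.sum_univ_two]
    · linear_combination (X 0 0) * htr - hdet
    · linear_combination (X 0 1) * htr
    · linear_combination (X 1 0) * htr
    · linear_combination (X 1 1) * htr - hdet
  have h2 : X ^ r = 1 := by
    have h3 : (Polynomial.X - 1 : Polynomial F) ^ 2 ∣ Polynomial.X ^ r - 1 := by
      have e : (Polynomial.X ^ r - 1 : Polynomial F) = (Polynomial.X - 1) ^ r := by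
        rw [sub_pow_char, one_pow]
      rw [e]
      exact pow_dvd_pow _ hr.two_le
    obtain ⟨g, hg⟩ := h3
    have h4 := congrArg (Polynomial.aeval X) hg
    simp only [map_mul, map_sub, map_pow, Polynomial.aeval_X, map_one] at h4
    rw [h1, zero_mul, sub_eq_zero] at h4
    exact h4
  have h4 : orderOf X ∣ Nat.gcd p r :=
    Nat.dvd_gcd (orderOf_dvd_of_pow_eq_one hX) (orderOf_dvd_of_pow_eq_one h2)
  rw [(Nat.coprime_primes hp.out hr).2 hpr, Nat.dvd_one, orderOf_eq_one_iff] at h4
  exact h4

end su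

end Cfsg.Agent.H7.NBPsu
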