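import Mathlib
import Cfsg.Agent.H7.NB.PsuStep
import Cfsg.Agent.H7.NB.PsuStar
import Cfsg.Agent.Phan.Frame
import Cfsg.Agent.S0283

/-!
# `PSU_n(q)`, `n ≥ 3`, `p` odd: more than one `p`-block

* `nb_isPSU`.
-/

set_option autoImplicit false

namespace Cfsg.Agent.H7.NBPsu

open Cfsg Matrix Cfsg.Agent.H7.NBp Subgroup Cfsg.Agent.Phan Cfsg.Agent.LieClassical.HermBasic
open Cfsg.Agent.LieClassical.SUBasic (suDiag coe_suDiag)

variable {F : Type} [Field F] [Fintype F] {q n : ℕ} {p : ℕ} [hp : Fact p.Prime]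

/-- the field with `q` elements -/
theorem exists_field (hF : Fintype.card F = q ^ 2) :
    ∃ (K : Type) (_ : Field K) (_ : Fintype K), Fintype.card K = q := by
  obtain ⟨r, k, hr, -, hqr, hk⟩ := exists_prime_pow hF
  have : Fact r.Prime := ⟨hr⟩
  have hfin : Finite (GaloisField r k) := Nat.finite_of_card_ne_zero (by
    rw [GaloisField.card r k hk.ne']
    exact (pow_pos hr.pos _).ne')
  let _ : Fintype (GaloisField r k) := Fintype.ofFinite _
  refine ⟨GaloisField r k, inferInstance, inferInstance, ?_⟩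
  rw [← Nat.card_eq_fintype_card, GaloisField.card r k hk.ne', hqr]

/-- `SU_2(q)` -/
theorem nb_su_two (hp2 : p ≠ 2) (hF : Fintype.card F = q ^ 2) (h4 : 4 ≤ q) : NB p (SU 2 F q) := by
  obtain ⟨K, _, _, hK⟩ := exists_field hF
  obtain ⟨e⟩ := S0281.result hF hK
  have h1 : NB p (Matrix.SpecialLinearGroup (Fin 2) K) :=
    nb_of_center (NBPsl.nb_two hp2 (by rw [hK]; exact h4))
  exact NB.iso e.symm h1

/-- elements of order `p` of `SU_2(q)` -/
theorem exists_elt (hp2 : p ≠ 2) (hF : Fintype.card F = q ^ 2) (hd : p ∣ q ^ 2 - 1) :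
    ∃ X : SU 2 F q, X ^ p = 1 ∧ X ≠ 1 := by
  obtain ⟨K, _, _, hK⟩ := exists_field hF
  obtain ⟨e⟩ := S0281.result hF hK
  have h1 : p ∣ Nat.card (ProjectiveSpecialLinearGroup (Fin 2) K) := by
    have h2 := NBPsl.card_psl (F := K) (n := 2) le_rfl
    rw [hK, Finset.prod_range_succ, Finset.prod_range_succ, Finset.prod_range_zero] at h2
    have h3 : 0 < q - 1 := by
      have := two_le hF
      omega
    have h4 : Nat.card (ProjectiveSpecialLinearGroup (Fin 2) K) * Nat.gcd 2 (q - 1) = q * (q ^ 2 - 1) := by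
      refine Nat.eq_of_mul_eq_mul_right h3 ?_
      norm_num at h2
      rw [mul_assoc, h2]
      ring
    have h5 : p ∣ Nat.card (ProjectiveSpecialLinearGroup (Fin 2) K) * Nat.gcd 2 (q - 1) := by
      rw [h4]
      exact hd.mul_left _
    rcases hp.out.dvd_mul.1 h5 with h | h
    · exact h
    · exact (hp2 ((Nat.prime_dvd_prime_iff_eq hp.out Nat.prime_two).1 (h.trans (Nat.gcd_dvd_left _ _)))).elim
  have h2 : p ∣ Nat.card (Matrix.SpecialLinearGroup (Fin 2) K) :=
    h1.trans (Subgroup.card_quotient_dvd_card _)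
  rw [← Nat.card_congr e.toEquiv] at h2
  obtain ⟨X, hX⟩ := exists_prime_orderOf_dvd_card' (G := SU 2 F q) p h2
  refine ⟨X, ?_, ?_⟩
  · rw [← hX, pow_orderOf_eq_one]
  · rintro rfl
    rw [orderOf_one] at hX
    exact hp.out.one_lt.ne hX

omit [Fintype F] in
theorem mat_pow' (g : SU n F q) (m : ℕ) : mat (g ^ m) = mat g ^ m := by
  induction m with
  | zero => rfl
  | succ m ih => rw [pow_succ, pow_succ, mat_mul, ih]

/-- no fixed points -/
theorem no_fix (hF : Fintype.card F = q ^ 2) (hpq : ¬ p ∣ q) {X : SU 2 F q} (hX : X ^ p = 1) (hX1 : X ≠ 1) :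
    (mat X - 1).det ≠ 0 := by
  obtain ⟨r, k, hr, hchar, hk, hk0⟩ := exists_prime_pow hF
  have hpr : p ≠ r := by
    rintro rfl
    apply hpq
    rw [hk]
    exact dvd_pow_self _ hk0.ne'
  refine det_sub_one_ne hr hpr (mat_det X) ?_ ?_
  · rw [← mat_pow', hX, mat_one]
  · intro h
    exact hX1 (mat_inj (by rw [mat_one]; exact h))

/-- **the step for `n ≥ 4`** -/
theorem nb_sub (hp2 : p ≠ 2) (hF : Fintype.card F = q ^ 2) (hpq : ¬ p ∣ q) (hd : p ∣ q ^ 2 - 1) {m : ℕ}
    (hm : 2 ≤ m) (h : NB p (SU m F q)) : NB p (PSU (2 + m) F q) := by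
  obtain ⟨X, hX, hX1⟩ := exists_elt hp2 hF hd
  have hf : Function.Injective (sh 0 (by omega : 0 + 2 ≤ 2 + m)) := sh_injective 0 _
  have he : Function.Injective (sh 2 (by omega : 2 + m ≤ 2 + m)) := sh_injective 2 _
  refine nb_step hF (by omega) he (x₀ := ⟨0, by omega⟩) ?_ (y := ext hF _ hf X) ⟨1, ?_⟩ ?_ ?_ h
  · intro i hi
    have := congrArg Fin.val hi
    rw [sh_val] at this
    simp only at this
    omega
  · rw [pow_one, ← map_pow, hX, map_one]
  · intro s
    refine ext_comm hF he hf (fun i j hij => ?_) s X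
    have := congrArg Fin.val hij
    rw [sh_val, sh_val] at this
    omega
  · intro g hg
    have h1 : mat g * extM (sh 0 (by omega : 0 + 2 ≤ 2 + m)) (mat X) =
        extM (sh 0 (by omega : 0 + 2 ≤ 2 + m)) (mat X) * mat g := congrArg mat hg
    have h2 := comm_proj hf (no_fix hF hpq hX hX1) h1
    have h3 : inc F (sh 2 (by omega : 2 + m ≤ 2 + m)) * (inc F (sh 2 (by omega : 2 + m ≤ 2 + m)))ᵀ =
        1 - inc F (sh 0 (by omega : 0 + 2 ≤ 2 + m)) * (inc F (sh 0 (by omega : 0 + 2 ≤ 2 + m)))ᵀ := by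
      classical
      rw [Cfsg.Agent.GenPsu.proj_eq F he, Cfsg.Agent.GenPsu.proj_eq F hf, ← Matrix.diagonal_one,
        Matrix.diagonal_sub]
      congr 1
      funext x
      by_cases hx : (x : ℕ) < 2
      · rw [if_neg, if_pos]
        · rw [sub_self]
        · exact ⟨⟨x, hx⟩, Fin.ext (by rw [sh_val]; simp)⟩
        · rintro ⟨i, hi⟩
          have := congrArg Fin.val hi
          rw [sh_val] at this
          omega
      · rw [if_pos, if_neg]
        · rw [sub_zero]
        · rintro ⟨i, hi⟩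
          have := congrArg Fin.val hi
          rw [sh_val] at this
          omega
        · exact ⟨⟨x - 2, by omega⟩, Fin.ext (by rw [sh_val]; simp only; omega)⟩
    rw [h3, Matrix.mul_sub, Matrix.sub_mul, h2, Matrix.mul_one, Matrix.one_mul]

/-! ### `n = 3` -/

/-- an element of order `m` for `m ∣ q² - 1` -/
theorem exists_order {m : ℕ} (hF : Fintype.card F = q ^ 2) (hm : m ∣ q ^ 2 - 1) : ∃ b : F, b ≠ 0 ∧ orderOf b = m := by
  classical
  obtain ⟨g, hg⟩ := IsCyclic.exists_generator (α := Fˣ)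
  have ho : orderOf g = q ^ 2 - 1 := by
    rw [orderOf_eq_card_of_forall_mem_zpowers hg, Nat.card_eq_fintype_card, Fintype.card_units, hF]
  have h0 : q ^ 2 - 1 ≠ 0 := by
    have := two_le hF
    have : 2 ^ 2 ≤ q ^ 2 := Nat.pow_le_pow_left this 2
    omega
  obtain ⟨c, hc⟩ := hm
  have hc0 : c ≠ 0 := by
    rintro rfl
    rw [mul_zero] at hc
    exact h0 hc
  refine ⟨((g ^ c : Fˣ) : F), Units.ne_zero _, ?_⟩
  rw [orderOf_units, orderOf_pow_of_dvd hc0 (by rw [ho, hc]; exact Dvd.intro_left m rfl), ho, hc,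
    Nat.mul_div_cancel _ (Nat.pos_of_ne_zero hc0)]

theorem dvd_sq {m q : ℕ} (h : m ∣ q + 1) : m ∣ q ^ 2 - 1 := by
  have e : q ^ 2 - 1 = (q + 1) * (q - 1) := by
    have := Nat.sq_sub_sq q 1
    simpa using this
  rw [e]
  exact h.mul_right _

/-- `diag(b, b, b⁻²)` -/
theorem nb_three_bb (hF : Fintype.card F = q ^ 2) {b : F} (hb0 : b ≠ 0) {k : ℕ} (hb : b ^ p ^ k = 1) (hb3 : b ^ 3 ≠ 1)
    (hbq : b ^ (q + 1) = 1) (h : NB p (SU 2 F q)) : NB p (PSU 3 F q) := by
  let d : Fin 3 → F := ![b, b, (b ^ 2)⁻¹]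
  have hd : ∏ i, d i = 1 := by
    rw [Fin.prod_univ_three]
    change b * b * (b ^ 2)⁻¹ = 1
    rw [← pow_two]
    exact mul_inv_cancel₀ (pow_ne_zero 2 hb0)
  have hdq : ∀ i, d i ^ (q + 1) = 1 := by
    intro i
    fin_cases i
    · exact hbq
    · exact hbq
    · change ((b ^ 2)⁻¹) ^ (q + 1) = 1
      rw [inv_pow, ← pow_mul, mul_comm, pow_mul, hbq, one_pow, inv_one]
  have he : Function.Injective (sh 0 (by omega : 0 + 2 ≤ 3)) := sh_injective 0 _
  refine nb_step_diag hF le_rfl he (x₀ := 2) ?_ (a := b) (b := (b ^ 2)⁻¹) ?_ (d := d) ?_ ?_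
    (y := suDiag q d hd hdq) rfl ⟨k, ?_⟩ h
  · intro i hi
    have := congrArg Fin.val hi
    rw [sh_val] at this
    have h2 : ((2 : Fin 3) : ℕ) = 2 := rfl
    omega
  · intro h1
    apply hb3
    have h2 : b * b ^ 2 = 1 := by
      nth_rewrite 1 [h1]
      exact inv_mul_cancel₀ (pow_ne_zero 2 hb0)
    rw [← h2]
    ring
  · intro i
    fin_cases i
    · rfl
    · rfl
  · intro x hx
    fin_cases x
    · exact (hx ⟨0, rfl⟩).elim
    · exact (hx ⟨1, rfl⟩).elim
    · rfl
  · apply mat_inj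
    rw [mat_pow', mat_one]
    change (diagonal d) ^ p ^ k = 1
    rw [diagonal_pow, ← Matrix.diagonal_one]
    congr 1
    funext i
    rw [Pi.pow_apply]
    fin_cases i
    · exact hb
    · exact hb
    · change ((b ^ 2)⁻¹) ^ p ^ k = 1
      rw [inv_pow, ← pow_mul, mul_comm, pow_mul, hb, one_pow, inv_one]

/-- `diag(1, a, a²)` -/
theorem nb_three_abel (hF : Fintype.card F = q ^ 2) (h3 : 3 ∣ q + 1) (h9 : ¬ 9 ∣ q + 1) (hq : q ≠ 2) :
    NB 3 (PSU 3 F q) := by
  have : Fact (Nat.Prime 3) := ⟨Nat.prime_three⟩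
  have hq2 := two_le hF
  obtain ⟨a, ha0, ha⟩ := exists_order hF (dvd_sq h3)
  -- a prime divisor of `(q + 1) / 3`
  obtain ⟨c, hc⟩ := h3
  have hc1 : c ≠ 1 := by omega
  obtain ⟨l, hl, hlc⟩ := Nat.exists_prime_and_dvd hc1
  have hl3 : l ≠ 3 := by
    rintro rfl
    obtain ⟨c', rfl⟩ := hlc
    exact h9 ⟨c', by rw [hc]; ring⟩
  have hlq : l ∣ q + 1 := by
    rw [hc]
    exact hlc.mul_left _
  obtain ⟨u, hu0, hu⟩ := exists_order hF (dvd_sq hlq)
  have ha3 : a ^ 3 = 1 := by rw [← ha, pow_orderOf_eq_one]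
  have ha1 : a ≠ 1 := by
    rintro rfl
    rw [orderOf_one] at ha
    omega
  have hul : u ^ l = 1 := by rw [← hu, pow_orderOf_eq_one]
  have hu1 : u ≠ 1 := by
    rintro rfl
    rw [orderOf_one] at hu
    exact hl.one_lt.ne hu
  have haq : a ^ (q + 1) = 1 := by rw [hc, pow_mul, ha3, one_pow]
  have huq : u ^ (q + 1) = 1 := by
    obtain ⟨c', hc'⟩ := hlq
    rw [hc', pow_mul, hul, one_pow]
  have ha2 : a ^ 2 ≠ 1 := by
    intro h2
    apply ha1
    have : a ^ 3 = a ^ 2 * a := by ring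
    rw [ha3, h2, one_mul] at this
    exact this.symm
  have haa : a ^ 2 ≠ a := by
    intro h2
    apply ha1
    have : a * (a - 1) = 0 := by linear_combination h2
    rcases mul_eq_zero.1 this with h | h
    · exact (ha0 h).elim
    · exact sub_eq_zero.1 h
  let d : Fin 3 → F := ![1, a, a ^ 2]
  have hd : Function.Injective d := by
    intro i j hij
    fin_cases i <;> fin_cases j
    · rfl
    · exact (ha1 (show (1 : F) = a from hij).symm).elim
    · exact (ha2 (show (1 : F) = a ^ 2 from hij).symm).elim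
    · exact (ha1 (show a = (1 : F) from hij)).elim
    · rfl
    · exact (haa (show a = a ^ 2 from hij).symm).elim
    · exact (ha2 (show a ^ 2 = (1 : F) from hij)).elim
    · exact (haa (show a ^ 2 = a from hij)).elim
    · rfl
  have hdd : ∏ i, d i = 1 := by
    rw [Fin.prod_univ_three]
    change 1 * a * a ^ 2 = 1
    rw [one_mul, ← pow_succ', ha3]
  have hdq : ∀ i, d i ^ (q + 1) = 1 := by
    intro i
    fin_cases i
    · exact one_pow _
    · exact haq
    · change (a ^ 2) ^ (q + 1) = 1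
      rw [← pow_mul, mul_comm, pow_mul, haq, one_pow]
  let d' : Fin 3 → F := ![u, u⁻¹, 1]
  have hdd' : ∏ i, d' i = 1 := by
    rw [Fin.prod_univ_three]
    change u * u⁻¹ * 1 = 1
    rw [mul_one, mul_inv_cancel₀ hu0]
  have hdq' : ∀ i, d' i ^ (q + 1) = 1 := by
    intro i
    fin_cases i
    · exact huq
    · change (u⁻¹) ^ (q + 1) = 1
      rw [inv_pow, huq, inv_one]
    · exact one_pow _
  refine nb_abelian_cent (t := suDiag q d hdd hdq) (u := suDiag q d' hdd' hdq') (m := l) ?_ ?_ ?_ ?_ ?_ ?_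
  · apply mat_inj
    rw [mat_pow', mat_one]
    change (diagonal d) ^ 3 = 1
    rw [diagonal_pow, ← Matrix.diagonal_one]
    congr 1
    funext i
    rw [Pi.pow_apply]
    fin_cases i
    · exact one_pow _
    · exact ha3
    · change (a ^ 2) ^ 3 = 1
      rw [← pow_mul, mul_comm, pow_mul, ha3, one_pow]
  · intro x y hx hy
    obtain ⟨e, he⟩ := NBPsl.diag_of_comm hd (congrArg mat hx : mat x * diagonal d = diagonal d * mat x)
    obtain ⟨e', he'⟩ := NBPsl.diag_of_comm hd (congrArg mat hy : mat y * diagonal d = diagonal d * mat y)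
    apply mat_inj
    change ((x : Matrix.SpecialLinearGroup (Fin 3) F) : Matrix (Fin 3) (Fin 3) F) *
      ((y : Matrix.SpecialLinearGroup (Fin 3) F) : Matrix (Fin 3) (Fin 3) F) =
      ((y : Matrix.SpecialLinearGroup (Fin 3) F) : Matrix (Fin 3) (Fin 3) F) *
      ((x : Matrix.SpecialLinearGroup (Fin 3) F) : Matrix (Fin 3) (Fin 3) F)
    rw [he, he', diagonal_mul_diagonal, diagonal_mul_diagonal]
    congr 1
    funext i
    exact mul_comm _ _
  · apply mat_inj
    change diagonal d' * diagonal d = diagonal d * diagonal d'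
    rw [diagonal_mul_diagonal, diagonal_mul_diagonal]
    congr 1
    funext i
    exact mul_comm _ _
  · apply mat_inj
    rw [mat_pow', mat_one]
    change (diagonal d') ^ l = 1
    rw [diagonal_pow, ← Matrix.diagonal_one]
    congr 1
    funext i
    rw [Pi.pow_apply]
    fin_cases i
    · exact hul
    · change (u⁻¹) ^ l = 1
      rw [inv_pow, hul, inv_one]
    · exact one_pow _
  · intro h
    exact hl3 ((Nat.prime_dvd_prime_iff_eq Nat.prime_three hl).1 h).symm
  · intro h
    obtain ⟨r, hr⟩ := center_scalar hF le_rfl h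
    have hr' : diagonal d' = r • (1 : Matrix (Fin 3) (Fin 3) F) := hr
    have h1 := congrFun (congrFun hr' 0) 0
    have h2 := congrFun (congrFun hr' 2) 2
    rw [Matrix.smul_apply, diagonal_apply_eq, Matrix.one_apply_eq] at h1 h2
    apply hu1
    exact (show u = r • 1 from h1).trans (show (1 : F) = r • 1 from h2).symm

omit [Fintype F] in
/-- the centralizer of a nonscalar matrix -/
theorem comm_of_plane {X : Matrix (Fin 2) (Fin 2) F} (hns : ∀ c : F, X ≠ c • 1) {A B : Matrix (Fin 2) (Fin 2) F}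
    (hA : A * X = X * A) (hB : B * X = X * B) : A * B = B * A := by
  have ent : ∀ Y : Matrix (Fin 2) (Fin 2) F, Y * X = X * Y →
      ∃ s : F, Y 0 1 = s * X 0 1 ∧ Y 1 0 = s * X 1 0 ∧ Y 0 0 - Y 1 1 = s * (X 0 0 - X 1 1) := by
    intro Y hY
    have h00 := congrFun (congrFun hY 0) 0
    have h01 := congrFun (congrFun hY 0) 1
    have h10 := congrFun (congrFun hY 1) 0
    simp only [Matrix.mul_apply, Fin.sum_univ_two] at h00 h01 h10
    have c1 : Y 0 1 * X 1 0 = X 0 1 * Y 1 0 := by linear_combination h00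
    have c2 : X 0 1 * (Y 0 0 - Y 1 1) = Y 0 1 * (X 0 0 - X 1 1) := by linear_combination h01
    have c3 : X 1 0 * (Y 0 0 - Y 1 1) = Y 1 0 * (X 0 0 - X 1 1) := by linear_combination -h10
    by_cases h1 : X 0 1 = 0
    · by_cases h2 : X 1 0 = 0
      · have h3 : X 0 0 - X 1 1 ≠ 0 := by
          intro h3
          apply hns (X 0 0)
          ext i j
          fin_cases i <;> fin_cases j <;> simp [h1, h2]
          exact (sub_eq_zero.1 h3).symm
        have e1 : Y 0 1 = 0 := by
          rw [h1, zero_mul] at c2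
          exact (mul_eq_zero.1 c2.symm).resolve_right h3
        have e2 : Y 1 0 = 0 := by
          rw [h2, zero_mul] at c3
          exact (mul_eq_zero.1 c3.symm).resolve_right h3
        refine ⟨(Y 0 0 - Y 1 1) / (X 0 0 - X 1 1), ?_, ?_, ?_⟩
        · rw [e1, h1, mul_zero]
        · rw [e2, h2, mul_zero]
        · rw [div_mul_cancel₀ _ h3]
      · refine ⟨Y 1 0 / X 1 0, ?_, ?_, ?_⟩
        · rw [div_mul_eq_mul_div, eq_div_iff h2]
          linear_combination c1
        · rw [div_mul_cancel₀ _ h2]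
        · rw [div_mul_eq_mul_div, eq_div_iff h2]
          linear_combination c3
    · refine ⟨Y 0 1 / X 0 1, ?_, ?_, ?_⟩
      · rw [div_mul_cancel₀ _ h1]
      · rw [div_mul_eq_mul_div, eq_div_iff h1]
        linear_combination -c1
      · rw [div_mul_eq_mul_div, eq_div_iff h1]
        linear_combination c2
  obtain ⟨s, a1, a2, a3⟩ := ent A hA
  obtain ⟨t, b1, b2, b3⟩ := ent B hB
  ext i j
  fin_cases i <;> fin_cases j <;> simp only [Matrix.mul_apply, Fin.sum_univ_two, Fin.zero_eta, Fin.mk_one]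
  · rw [a1, a2, b1, b2]
    ring
  · rw [a1, b1]
    linear_combination (t * X 0 1) * a3 - (s * X 0 1) * b3
  · rw [a2, b2]
    linear_combination -(t * X 1 0) * a3 + (s * X 1 0) * b3
  · rw [a1, a2, b1, b2]
    ring

omit [Fintype F] in
theorem extM_three (X : Matrix (Fin 2) (Fin 2) F) : extM (sh 0 (by omega : 0 + 2 ≤ 3)) X =
    !![X 0 0, X 0 1, 0; X 1 0, X 1 1, 0; 0, 0, 1] := by
  have he : Function.Injective (sh 0 (by omega : 0 + 2 ≤ 3)) := sh_injective 0 _
  have h0 : (0 : Fin 3) = sh 0 (by omega : 0 + 2 ≤ 3) 0 := rfl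
  have h1 : (1 : Fin 3) = sh 0 (by omega : 0 + 2 ≤ 3) 1 := rfl
  have h2 : ∀ i, (2 : Fin 3) ≠ sh 0 (by omega : 0 + 2 ≤ 3) i := by
    intro i
    fin_cases i
    · decide
    · decide
  ext i j
  fin_cases i <;> fin_cases j
  · exact extM_apply he X 0 0
  · exact extM_apply he X 0 1
  · exact (extM_apply_right he h2 X 0).trans (by simp)
  · exact extM_apply he X 1 0
  · exact extM_apply he X 1 1
  · exact (extM_apply_right he h2 X 1).trans (by simp)
  · exact (extM_apply_left h2 X 0).trans (by simp)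
  · exact (extM_apply_left h2 X 1).trans (by simp)
  · exact (extM_apply_left h2 X 2).trans (by simp)

omit [Fintype F] in
/-- the centralizer of `X ⊕ 1` -/
theorem comm_of_three {X : Matrix (Fin 2) (Fin 2) F} (hX : (X - 1).det ≠ 0) (hns : ∀ c : F, X ≠ c • 1)
    {A B : Matrix (Fin 3) (Fin 3) F}
    (hA : A * extM (sh 0 (by omega : 0 + 2 ≤ 3)) X = extM (sh 0 (by omega : 0 + 2 ≤ 3)) X * A)
    (hB : B * extM (sh 0 (by omega : 0 + 2 ≤ 3)) X = extM (sh 0 (by omega : 0 + 2 ≤ 3)) X * B) : A * B = B * A := by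
  have he : Function.Injective (sh 0 (by omega : 0 + 2 ≤ 3)) := sh_injective 0 _
  have ent : ∀ Y : Matrix (Fin 3) (Fin 3) F,
      Y * extM (sh 0 (by omega : 0 + 2 ≤ 3)) X = extM (sh 0 (by omega : 0 + 2 ≤ 3)) X * Y →
      Y 0 2 = 0 ∧ Y 1 2 = 0 ∧ Y 2 0 = 0 ∧ Y 2 1 = 0 ∧
        !![Y 0 0, Y 0 1; Y 1 0, Y 1 1] * X = X * !![Y 0 0, Y 0 1; Y 1 0, Y 1 1] := by
    intro Y hY
    have h1 := comm_proj he hX hY
    classical
    rw [Cfsg.Agent.GenPsu.proj_eq F he] at h1
    have r0 : (0 : Fin 3) ∈ Set.range (sh 0 (by omega : 0 + 2 ≤ 3)) := ⟨0, rfl⟩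
    have r1 : (1 : Fin 3) ∈ Set.range (sh 0 (by omega : 0 + 2 ≤ 3)) := ⟨1, rfl⟩
    have r2 : (2 : Fin 3) ∉ Set.range (sh 0 (by omega : 0 + 2 ≤ 3)) := by
      rintro ⟨i, hi⟩
      have := congrArg Fin.val hi
      rw [sh_val] at this
      have h2 : ((2 : Fin 3) : ℕ) = 2 := rfl
      omega
    have e02 := congrFun (congrFun h1 0) 2
    have e12 := congrFun (congrFun h1 1) 2
    have e20 := congrFun (congrFun h1 2) 0
    have e21 := congrFun (congrFun h1 2) 1
    rw [Matrix.mul_diagonal, Matrix.diagonal_mul] at e02 e12 e20 e21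
    rw [if_neg r2, if_pos r0, mul_zero, one_mul] at e02
    rw [if_neg r2, if_pos r1, mul_zero, one_mul] at e12
    rw [if_pos r0, if_neg r2, mul_one, zero_mul] at e20
    rw [if_pos r1, if_neg r2, mul_one, zero_mul] at e21
    refine ⟨e02.symm, e12.symm, e20, e21, ?_⟩
    rw [extM_three] at hY
    ext i j
    fin_cases i <;> fin_cases j
    · have := congrFun (congrFun hY 0) 0
      simp [Matrix.mul_apply, Fin.sum_univ_three, Fin.sum_univ_two] at this ⊢
      linear_combination this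
    · have := congrFun (congrFun hY 0) 1
      simp [Matrix.mul_apply, Fin.sum_univ_three, Fin.sum_univ_two] at this ⊢
      linear_combination this
    · have := congrFun (congrFun hY 1) 0
      simp [Matrix.mul_apply, Fin.sum_univ_three, Fin.sum_univ_two] at this ⊢
      linear_combination this
    · have := congrFun (congrFun hY 1) 1
      simp [Matrix.mul_apply, Fin.sum_univ_three, Fin.sum_univ_two] at this ⊢
      linear_combination this
  obtain ⟨a1, a2, a3, a4, a5⟩ := ent A hA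
  obtain ⟨b1, b2, b3, b4, b5⟩ := ent B hB
  have h := comm_of_plane hns a5 b5
  have h00 := congrFun (congrFun h 0) 0
  have h01 := congrFun (congrFun h 0) 1
  have h10 := congrFun (congrFun h 1) 0
  have h11 := congrFun (congrFun h 1) 1
  simp [Matrix.mul_apply, Fin.sum_univ_two] at h00 h01 h10 h11
  ext i j
  fin_cases i <;> fin_cases j <;>
    simp only [Matrix.mul_apply, Fin.sum_univ_three, Fin.zero_eta, Fin.mk_one, Fin.reduceFinMk, a1, a2, a3, a4, b1,
      b2, b3, b4, mul_zero, zero_mul, add_zero, zero_add]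
  · linear_combination h00
  · linear_combination h01
  · linear_combination h10
  · linear_combination h11
  · ring

/-- `n = 3`, `p ∣ q - 1` -/
theorem nb_three_split (hp2 : p ≠ 2) (hF : Fintype.card F = q ^ 2) (hpq : ¬ p ∣ q) (hd : p ∣ q - 1) :
    NB p (PSU 3 F q) := by
  have hq2 := two_le hF
  have hd2 : p ∣ q ^ 2 - 1 := by
    have e : q ^ 2 - 1 = (q + 1) * (q - 1) := by
      have := Nat.sq_sub_sq q 1
      simpa using this
    rw [e]
    exact hd.mul_left _
  have hp3 : 3 ≤ p := by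
    have := hp.out.two_le
    omega
  have hq4 : 4 ≤ q := by
    have := Nat.le_of_dvd (by omega) hd
    omega
  obtain ⟨X, hX, hX1⟩ := exists_elt hp2 hF hd2
  obtain ⟨c, hc0, hc⟩ := exists_order hF (dvd_sq (dvd_refl (q + 1)))
  have hcq : c ^ (q + 1) = 1 := by rw [← hc, pow_orderOf_eq_one]
  have hc3 : c ^ 3 ≠ 1 := by
    intro h
    have h1 := orderOf_dvd_of_pow_eq_one h
    rw [hc] at h1
    have := Nat.le_of_dvd (by norm_num) h1
    omega
  let d : Fin 3 → F := ![c, c, (c ^ 2)⁻¹]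
  have hdd : ∏ i, d i = 1 := by
    rw [Fin.prod_univ_three]
    change c * c * (c ^ 2)⁻¹ = 1
    rw [← pow_two]
    exact mul_inv_cancel₀ (pow_ne_zero 2 hc0)
  have hdq : ∀ i, d i ^ (q + 1) = 1 := by
    intro i
    fin_cases i
    · exact hcq
    · exact hcq
    · change ((c ^ 2)⁻¹) ^ (q + 1) = 1
      rw [inv_pow, ← pow_mul, mul_comm, pow_mul, hcq, one_pow, inv_one]
  have hf : Function.Injective (sh 0 (by omega : 0 + 2 ≤ 3)) := sh_injective 0 _
  have hfix := no_fix hF hpq hX hX1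
  have hns : ∀ s : F, mat X ≠ s • (1 : Matrix (Fin 2) (Fin 2) F) := by
    intro s hs
    have h1 := mat_det X
    rw [hs, det_smul, det_one, Fintype.card_fin, mul_one] at h1
    have h2 : (mat X) ^ p = 1 := by rw [← mat_pow', hX, mat_one]
    rw [hs, smul_pow, one_pow] at h2
    have h3 := congrFun (congrFun h2 0) 0
    rw [Matrix.smul_apply, Matrix.one_apply_eq, smul_eq_mul, mul_one] at h3
    have h4 : orderOf s ∣ Nat.gcd p 2 := Nat.dvd_gcd (orderOf_dvd_of_pow_eq_one h3) (orderOf_dvd_of_pow_eq_one h1)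
    rw [(Nat.coprime_primes hp.out Nat.prime_two).2 hp2, Nat.dvd_one, orderOf_eq_one_iff] at h4
    apply hX1
    apply mat_inj
    rw [hs, h4, one_smul, mat_one]
  refine nb_abelian_cent (t := ext hF _ hf X) (u := suDiag q d hdd hdq) (m := q + 1) ?_ ?_ ?_ ?_ ?_ ?_
  · rw [← map_pow, hX, map_one]
  · intro x y hx hy
    apply mat_inj
    exact comm_of_three hfix hns (congrArg mat hx) (congrArg mat hy)
  · refine (Cfsg.Agent.GenPsu.ext_comm_diag hF hf (a := c) (b := (c ^ 2)⁻¹) (d := d) ?_ ?_ rfl X).symm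
    · intro i
      fin_cases i
      · rfl
      · rfl
    · intro x hx
      fin_cases x
      · exact (hx ⟨0, rfl⟩).elim
      · exact (hx ⟨1, rfl⟩).elim
      · rfl
  · apply mat_inj
    rw [mat_pow', mat_one]
    change (diagonal d) ^ (q + 1) = 1
    rw [diagonal_pow, ← Matrix.diagonal_one]
    congr 1
    funext i
    rw [Pi.pow_apply]
    exact hdq i
  · intro h
    have h1 : p ∣ (q + 1) - (q - 1) := Nat.dvd_sub h hd
    have h2 : q + 1 - (q - 1) = 2 := by omega
    rw [h2, Nat.prime_dvd_prime_iff_eq hp.out Nat.prime_two] at h1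
    exact hp2 h1
  · intro h
    obtain ⟨r, hr⟩ := center_scalar hF le_rfl h
    have hr' : diagonal d = r • (1 : Matrix (Fin 3) (Fin 3) F) := hr
    have h1 := congrFun (congrFun hr' 0) 0
    have h2 := congrFun (congrFun hr' 2) 2
    rw [Matrix.smul_apply, diagonal_apply_eq, Matrix.one_apply_eq] at h1 h2
    have h3 : c = (c ^ 2)⁻¹ := (show c = r • 1 from h1).trans (show (c ^ 2)⁻¹ = r • 1 from h2).symm
    apply hc3
    have h4 : c * c ^ 2 = 1 := by
      nth_rewrite 1 [h3]
      exact inv_mul_cancel₀ (pow_ne_zero 2 hc0)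
    rw [← h4]
    ring

/-- `n = 3`, `p ∣ q² - 1` -/
theorem nb_three_all (hp2 : p ≠ 2) (hF : Fintype.card F = q ^ 2) (hpq : ¬ p ∣ q) (hd : p ∣ q ^ 2 - 1) (hq : q ≠ 2) :
    NB p (PSU 3 F q) := by
  have hq2 := two_le hF
  have e : q ^ 2 - 1 = (q + 1) * (q - 1) := by
    have := Nat.sq_sub_sq q 1
    simpa using this
  rw [e] at hd
  rcases hp.out.dvd_mul.1 hd with h | h
  swap
  · exact nb_three_split hp2 hF hpq h
  have hp3 : 3 ≤ p := by
    have := hp.out.two_le
    omega
  by_cases hpe : p = 3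
  · subst hpe
    by_cases h9 : 9 ∣ q + 1
    · obtain ⟨b, hb0, hb⟩ := exists_order hF (dvd_sq h9)
      refine nb_three_bb hF hb0 (k := 2) ?_ ?_ ?_ (nb_su_two hp2 hF ?_)
      · have := pow_orderOf_eq_one b
        rw [hb] at this
        exact this
      · intro h3
        have h4 := orderOf_dvd_of_pow_eq_one h3
        rw [hb] at h4
        norm_num at h4
      · obtain ⟨c, hc⟩ := h9
        have := pow_orderOf_eq_one b
        rw [hb] at this
        rw [hc, pow_mul, this, one_pow]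
      · have := Nat.le_of_dvd (by omega) h9
        omega
    · exact nb_three_abel hF h h9 hq
  · have hp4 : p ≠ 4 := by
      rintro rfl
      exact absurd hp.out (by norm_num)
    have h5 : 5 ≤ p := by omega
    obtain ⟨b, hb0, hb⟩ := exists_order hF (dvd_sq h)
    refine nb_three_bb hF hb0 (k := 1) ?_ ?_ ?_ (nb_su_two hp2 hF ?_)
    · have := pow_orderOf_eq_one b
      rw [hb] at this
      rw [pow_one]
      exact this
    · intro h3
      have h4 := orderOf_dvd_of_pow_eq_one h3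
      rw [hb] at h4
      have := Nat.le_of_dvd (by norm_num) h4
      omega
    · obtain ⟨c, hc⟩ := h
      have := pow_orderOf_eq_one b
      rw [hb] at this
      rw [hc, pow_mul, this, one_pow]
    · have := Nat.le_of_dvd (by omega) h
      omega

/-- `PSU_4(2) = PSp_4(3)` -/
theorem nb_four_two (hF : Fintype.card F = 2 ^ 2) : NB 3 (PSU 4 F 2) := by
  have : Fact (Nat.Prime 3) := ⟨Nat.prime_three⟩
  obtain ⟨e⟩ := S0822.result (F := F) (K := ZMod 3) hF (by rw [ZMod.card])
  have hs := S0283.result hF (n := 4) (by norm_num) (by norm_num)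
  refine NB.of_lie (Or.inr (Or.inl ⟨ZMod 3, inferInstance, inferInstance, inferInstance, 2, le_rfl, ?_, ⟨e⟩⟩))
  intro _
  rw [ZMod.card]

/-- `PSU_5(2)` -/
theorem nb_five_two (hF : Fintype.card F = 2 ^ 2) : NB 3 (PSU 5 F 2) := by
  have : Fact (Nat.Prime 3) := ⟨Nat.prime_three⟩
  obtain ⟨a, ha0, ha⟩ := exists_order (q := 2) hF (m := 3) (by norm_num)
  have ha3 : a ^ 3 = 1 := by rw [← ha, pow_orderOf_eq_one]
  have ha1 : a ≠ 1 := by
    rintro rfl
    rw [orderOf_one] at ha
    omega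
  let d : Fin 5 → F := ![a, a, a, a, a ^ 2]
  have hdd : ∏ i, d i = 1 := by
    rw [Fin.prod_univ_five]
    change a * a * a * a * a ^ 2 = 1
    calc a * a * a * a * a ^ 2 = (a ^ 3) ^ 2 := by ring
      _ = 1 := by rw [ha3, one_pow]
  have hdq : ∀ i, d i ^ (2 + 1) = 1 := by
    intro i
    fin_cases i
    · exact ha3
    · exact ha3
    · exact ha3
    · exact ha3
    · change (a ^ 2) ^ 3 = 1
      rw [← pow_mul, mul_comm, pow_mul, ha3, one_pow]
  have he : Function.Injective (sh 0 (by omega : 0 + 4 ≤ 5)) := sh_injective 0 _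
  refine nb_step_diag hF (by norm_num) he (x₀ := 4) ?_ (a := a) (b := a ^ 2) ?_ (d := d) ?_ ?_
    (y := suDiag 2 d hdd hdq) rfl ⟨1, ?_⟩ (nb_of_center (nb_four_two hF))
  · intro i hi
    have := congrArg Fin.val hi
    rw [sh_val] at this
    have h2 : ((4 : Fin 5) : ℕ) = 4 := rfl
    omega
  · intro h
    apply ha1
    have : a * (a - 1) = 0 := by linear_combination -h
    rcases mul_eq_zero.1 this with h | h
    · exact (ha0 h).elim
    · exact sub_eq_zero.1 h
  · intro i
    fin_cases i <;> rfl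
  · intro x hx
    fin_cases x
    · exact (hx ⟨0, rfl⟩).elim
    · exact (hx ⟨1, rfl⟩).elim
    · exact (hx ⟨2, rfl⟩).elim
    · exact (hx ⟨3, rfl⟩).elim
    · rfl
  · apply mat_inj
    rw [mat_pow', mat_one]
    change (diagonal d) ^ 3 ^ 1 = 1
    rw [diagonal_pow, ← Matrix.diagonal_one]
    congr 1
    funext i
    rw [Pi.pow_apply, pow_one]
    exact hdq i

/-- `p ∣ q² - 1` -/
theorem nb_tor (hp2 : p ≠ 2) (hF : Fintype.card F = q ^ 2) (hpq : ¬ p ∣ q) (hd : p ∣ q ^ 2 - 1) :
    ∀ n : ℕ, 3 ≤ n → ¬ (n = 3 ∧ q = 2) → NB p (PSU n F q) := by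
  have hq2 := two_le hF
  have hq3 : q ≠ 3 := by
    rintro rfl
    have h1 : p ∣ 2 ^ 3 := hd
    exact hp2 ((Nat.prime_dvd_prime_iff_eq hp.out Nat.prime_two).1 (hp.out.dvd_of_dvd_pow h1))
  have hp3 : q = 2 → p = 3 := by
    rintro rfl
    have h1 : p ∣ 3 := hd
    exact (Nat.prime_dvd_prime_iff_eq hp.out Nat.prime_three).1 h1
  intro n
  induction n using Nat.strong_induction_on with
  | _ n ih =>
    intro hn hne
    by_cases hn3 : n = 3
    · subst hn3
      exact nb_three_all hp2 hF hpq hd (fun h => hne ⟨rfl, h⟩)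
    by_cases hq : q = 2
    · have h3 := hp3 hq
      subst hq
      subst h3
      by_cases hn4 : n = 4
      · subst hn4
        exact nb_four_two hF
      by_cases hn5 : n = 5
      · subst hn5
        exact nb_five_two hF
      obtain ⟨m, rfl⟩ := Nat.exists_eq_add_of_le (show 2 ≤ n by omega)
      exact nb_sub hp2 hF hpq hd (by omega) (nb_of_center (ih m (by omega) (by omega) (by omega)))
    · obtain ⟨m, rfl⟩ := Nat.exists_eq_add_of_le (show 2 ≤ n by omega)
      by_cases hm : m = 2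
      · subst hm
        exact nb_sub hp2 hF hpq hd le_rfl (nb_su_two hp2 hF (by omega))
      · exact nb_sub hp2 hF hpq hd (by omega) (nb_of_center (ih m (by omega) (by omega) (by omega)))

/-- **`PSU_n(q)`, `p` odd: more than one `p`-block** -/
theorem nb_psu (hp2 : p ≠ 2) (hF : Fintype.card F = q ^ 2) (hn : 3 ≤ n) (hne : ¬ (n = 3 ∧ q = 2)) :
    NB p (PSU n F q) := by
  have hs := S0283.result hF (n := n) hn hne
  by_cases hpq : p ∣ q
  · obtain ⟨r, k, hr, hchar, hk, hk0⟩ := exists_prime_pow hF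
    have hpr : r = p := by
      rw [hk] at hpq
      exact ((Nat.prime_dvd_prime_iff_eq hp.out hr).1 (hp.out.dvd_of_dvd_pow hpq)).symm
    subst hpr
    exact NB.of_lie (Or.inr (Or.inr (Or.inl
      ⟨F, inferInstance, inferInstance, hchar, n, q, hF, hn, hne, ⟨MulEquiv.refl _⟩⟩)))
  by_cases hd : p ∣ q ^ 2 - 1
  · exact nb_tor hp2 hF hpq hd n hn hne
  · exact nb_psu_star hF hn hpq hd

/-- **the row of the unitary groups** -/
theorem nb_isPSU (hp2 : p ≠ 2) {S : Type*} [Group S] (h : IsPSU S) : NB p S := by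
  obtain ⟨F, _, _, n, q, hF, hn, hne, ⟨e⟩⟩ := h
  exact NB.iso e.symm (nb_psu hp2 hF hn hne)

end Cfsg.Agent.H7.NBPsu
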